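import Groth.Agent.Pic13.H946.Core
import Groth.Agent.Fga.HodgeSec

/-!
# Dimension inequalities from the long exact cohomology sequence

`X` proper over a field `k`.  `h k F q = dim_k H^q(X, F)`.
* `h_mid`, `h_right`, `h_left`, `h_left_zero`: the obvious inequalities for a short exact sequence twisted by an
  invertible module.
* `h_target_le`, `h_source_le`, `h_source_zero_le`: for `φ : F ⟶ G` between coherent modules, the difference between
  the cohomologies of `F ⊗ N` and `G ⊗ N` is controlled by those of `ker φ ⊗ N` and `coker φ ⊗ N`.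
-/

set_option autoImplicit false
universe u
open CategoryTheory CategoryTheory.Limits AlgebraicGeometry Opposite TopologicalSpace

namespace K434.HBound

open Groth.Agent Groth.Agent.Ega2 Groth.Agent.VarietyA.EulerLES Groth.Agent.CohqB.SerTw
open Groth.Agent.Fga.PicMon Groth.Agent.Pic13.H946.Core Groth.Agent.CohqB.DevSupport

variable (k : Type u) [Field k] {X : Scheme.{u}} [X.Over (Spec (CommRingCat.of k))]

/-- `dim_k H^q(X, F)`. -/
noncomputable def h (F : X.Modules) (q : ℕ) : ℕ := Module.finrank k (Coh.HH X F q)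

theorem h_congr {A B : X.Modules} (e : mc A = mc B) (q : ℕ) : h k A q = h k B q :=
  finrank_congr k e q

theorem h_iso {A B : X.Modules} (e : A ≅ B) (q : ℕ) : h k A q = h k B q :=
  h_congr k (mc_eq e) q

theorem h_eq_zero {A : X.Modules} {q : ℕ} (hA : Subsingleton (Coh.HH X A q)) : h k A q = 0 :=
  Module.finrank_zero_of_subsingleton

variable [IsProper (X ↘ Spec (CommRingCat.of k))]

section SES

variable {S : ShortComplex X.Modules} (hS : S.ShortExact)

include hS

theorem h_mid (h2 : Coh.IsCoh S.X₂) (h1 : Coh.IsCoh S.X₁) (h3 : Coh.IsCoh S.X₃) (q : ℕ) :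
    h k S.X₂ q ≤ h k S.X₁ q + h k S.X₃ q := by
  have f1 := Fga.HodgeSec.finite_HH' k h1 q
  have f2 := Fga.HodgeSec.finite_HH' k h2 q
  have f3 := Fga.HodgeSec.finite_HH' k h3 q
  unfold h
  rw [VarietyA.EulerAdd.finrank_eq k S hS q]
  exact add_le_add (LinearMap.finrank_range_le _) (Submodule.finrank_le _)

theorem h_right (h2 : Coh.IsCoh S.X₂) (h1 : Coh.IsCoh S.X₁) (h3 : Coh.IsCoh S.X₃) (q : ℕ) :
    h k S.X₃ q ≤ h k S.X₂ q + h k S.X₁ (q + 1) := by
  have f1 := Fga.HodgeSec.finite_HH' k h1 (q + 1)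
  have f2 := Fga.HodgeSec.finite_HH' k h2 q
  have f3 := Fga.HodgeSec.finite_HH' k h3 q
  unfold h
  rw [VarietyA.EulerAdd.finrank_eq₃ k S hS q]
  exact add_le_add (LinearMap.finrank_range_le _) (Submodule.finrank_le _)

theorem h_left (h2 : Coh.IsCoh S.X₂) (h1 : Coh.IsCoh S.X₁) (h3 : Coh.IsCoh S.X₃) (q : ℕ) :
    h k S.X₁ (q + 1) ≤ h k S.X₂ (q + 1) + h k S.X₃ q := by
  have f1 := Fga.HodgeSec.finite_HH' k h1 (q + 1)
  have f2 := Fga.HodgeSec.finite_HH' k h2 (q + 1)
  have f3 := Fga.HodgeSec.finite_HH' k h3 q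
  unfold h
  rw [VarietyA.EulerAdd.finrank_eq₁ k S hS q, add_comm]
  exact add_le_add (Submodule.finrank_le _) (LinearMap.finrank_range_le _)

theorem h_left_zero (h2 : Coh.IsCoh S.X₂) : h k S.X₁ 0 ≤ h k S.X₂ 0 := by
  have f2 := Fga.HodgeSec.finite_HH' k h2 0
  unfold h
  rw [VarietyA.EulerAdd.finrank_eq₀ k S hS]
  exact Submodule.finrank_le _

end SES

section Hom

variable {F G : X.Modules} (φ : F ⟶ G)

include k in
theorem image_aux (hF : Coh.IsCoh F) (hG : Coh.IsCoh G) :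
    Coh.IsCoh (kernel φ) ∧ Coh.IsCoh (cokernel φ) ∧ Coh.IsCoh (cokernel (kernel.ι φ)) ∧
      Coh.IsCoh (kernel (cokernel.π φ)) := by
  have hNoeth : IsNoetherian X := VarietyA.TwistExist.isNoetherian k X
  have h1 := isCoh_kernel φ hF hG.1
  have h2 := isCoh_cokernel φ hF.1 hG
  exact ⟨h1, h2, isCoh_cokernel _ h1.1 hF, isCoh_kernel _ hG h2.1⟩

omit [IsProper (X ↘ Spec (CommRingCat.of k))] in
theorem h_image (N : X.Modules) (q : ℕ) : h k (CohB1.tensorMod (cokernel (kernel.ι φ)) N) q =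
    h k (CohB1.tensorMod (kernel (cokernel.π φ)) N) q :=
  h_iso k (Tens.mapTIso (Abelian.coimageIsoImage φ) (Iso.refl N)) q

variable (hF : Coh.IsCoh F) (hG : Coh.IsCoh G) {N : X.Modules} (hN : PicF.IsInvertible N) (q : ℕ)

include hF hG hN

/-- `h^q(G ⊗ N) ≤ h^q(F ⊗ N) + h^{q+1}(ker φ ⊗ N) + h^q(coker φ ⊗ N)`. -/
theorem h_target_le : h k (CohB1.tensorMod G N) q ≤ h k (CohB1.tensorMod F N) q +
    h k (CohB1.tensorMod (kernel φ) N) (q + 1) + h k (CohB1.tensorMod (cokernel φ) N) q := by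
  obtain ⟨hK, hQ, hI, hI'⟩ := image_aux k φ hF hG
  have e1 := h_mid k (shortExact_tw hN (shortExact_image_cokernel φ)) (isCoh_tensorMod hG hN)
    (isCoh_tensorMod hI' hN) (isCoh_tensorMod hQ hN) q
  have e2 := h_right k (shortExact_tw hN (shortExact_kernel_coimage φ)) (isCoh_tensorMod hF hN)
    (isCoh_tensorMod hK hN) (isCoh_tensorMod hI hN) q
  have e3 := h_image k φ N q
  change h k (CohB1.tensorMod G N) q ≤ h k (CohB1.tensorMod (kernel (cokernel.π φ)) N) q +
    h k (CohB1.tensorMod (cokernel φ) N) q at e1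
  change h k (CohB1.tensorMod (cokernel (kernel.ι φ)) N) q ≤ h k (CohB1.tensorMod F N) q +
    h k (CohB1.tensorMod (kernel φ) N) (q + 1) at e2
  omega

/-- `h^{q+1}(F ⊗ N) ≤ h^{q+1}(G ⊗ N) + h^{q+1}(ker φ ⊗ N) + h^q(coker φ ⊗ N)`. -/
theorem h_source_le : h k (CohB1.tensorMod F N) (q + 1) ≤ h k (CohB1.tensorMod G N) (q + 1) +
    h k (CohB1.tensorMod (kernel φ) N) (q + 1) + h k (CohB1.tensorMod (cokernel φ) N) q := by
  obtain ⟨hK, hQ, hI, hI'⟩ := image_aux k φ hF hG
  have e1 := h_left k (shortExact_tw hN (shortExact_image_cokernel φ)) (isCoh_tensorMod hG hN)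
    (isCoh_tensorMod hI' hN) (isCoh_tensorMod hQ hN) q
  have e2 := h_mid k (shortExact_tw hN (shortExact_kernel_coimage φ)) (isCoh_tensorMod hF hN)
    (isCoh_tensorMod hK hN) (isCoh_tensorMod hI hN) (q + 1)
  have e3 := h_image k φ N (q + 1)
  change h k (CohB1.tensorMod (kernel (cokernel.π φ)) N) (q + 1) ≤ h k (CohB1.tensorMod G N) (q + 1) +
    h k (CohB1.tensorMod (cokernel φ) N) q at e1
  change h k (CohB1.tensorMod F N) (q + 1) ≤ h k (CohB1.tensorMod (kernel φ) N) (q + 1) +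
    h k (CohB1.tensorMod (cokernel (kernel.ι φ)) N) (q + 1) at e2
  omega

/-- `h^0(F ⊗ N) ≤ h^0(G ⊗ N) + h^0(ker φ ⊗ N)`. -/
theorem h_source_zero_le : h k (CohB1.tensorMod F N) 0 ≤ h k (CohB1.tensorMod G N) 0 +
    h k (CohB1.tensorMod (kernel φ) N) 0 := by
  obtain ⟨hK, hQ, hI, hI'⟩ := image_aux k φ hF hG
  have e1 := h_left_zero k (shortExact_tw hN (shortExact_image_cokernel φ)) (isCoh_tensorMod hG hN)
  have e2 := h_mid k (shortExact_tw hN (shortExact_kernel_coimage φ)) (isCoh_tensorMod hF hN)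
    (isCoh_tensorMod hK hN) (isCoh_tensorMod hI hN) 0
  have e3 := h_image k φ N 0
  change h k (CohB1.tensorMod (kernel (cokernel.π φ)) N) 0 ≤ h k (CohB1.tensorMod G N) 0 at e1
  change h k (CohB1.tensorMod F N) 0 ≤ h k (CohB1.tensorMod (kernel φ) N) 0 +
    h k (CohB1.tensorMod (cokernel (kernel.ι φ)) N) 0 at e2
  omega

end Hom

end K434.HBound
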