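import Groth.Agent.CohqB.SerTw
import Groth.Agent.CohqB.DevSimple
import Groth.Agent.Fga.DimLt
import Groth.Agent.Fga.RegSec
import Groth.Agent.Pic13.H946.Core
import Groth.Agent.VarietyA.CurveFin
import Groth.Agent.S0019
import Groth.Agent.S0020
import Groth.Agent.S0027
import Groth.Agent.S0046

/-!
# Dévissage by irreducible supports

* `devissage`: on a Noetherian scheme, a property of coherent modules with support of dimension `≤ e` which is
  invariant under isomorphism, stable under extensions, true for zero modules and true for coherent modules whose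
  support is irreducible (the closure of a point) holds for all coherent modules with support of dimension `≤ e`.
* `dim_support_le`: a coherent module supported in an irreducible closed set of dimension `≤ e + 1` and zero at its
  generic point has support of dimension `≤ e`.
* `exists_mul`: a section of an invertible module `N` generating at `ξ` gives `F ⟶ F ⊗ N` with kernel and cokernel
  zero at `ξ` and supported in `supp F`.
-/

set_option autoImplicit false
universe u
open CategoryTheory CategoryTheory.Limits AlgebraicGeometry Opposite TopologicalSpace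

namespace K434.DevIrred

open Groth.Agent Groth.Agent.Ega2 Groth.Agent.Fdesc.LocGen Groth.Agent.CohqB.SerTw
open Groth.Agent.CohqB.DevSupport Groth.Agent.Pic13.H946.Core

theorem withBot_le_of_lt_succ {x : WithBot ℕ∞} {r : ℕ} (h : x < ((r + 1 : ℕ) : WithBot ℕ∞)) :
    x ≤ (r : WithBot ℕ∞) := by
  induction x using WithBot.recBotCoe with
  | bot => exact bot_le
  | coe a =>
    have h1 : a < ((r + 1 : ℕ) : ℕ∞) := by exact_mod_cast h
    have h2 : a ≤ (r : ℕ∞) := by
      rw [Nat.cast_add, Nat.cast_one] at h1
      exact Order.le_of_lt_add_one h1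
    exact_mod_cast h2

theorem withBot_lt_succ {x : WithBot ℕ∞} {r : ℕ} (h : x ≤ (r : WithBot ℕ∞)) :
    x < ((r + 1 : ℕ) : WithBot ℕ∞) :=
  lt_of_le_of_lt h (by exact_mod_cast Nat.lt_succ_self r)

variable {X : Scheme.{u}}

/-- A module embedded in the structure sheaf of an integral scheme and zero at the generic point is zero. -/
theorem isZero_of_torsion {Z : Scheme.{u}} [IsIntegral Z] {I : Z.Modules} (ι : I ⟶ Coh.structureModule Z)
    [Mono ι] (h : genericPoint Z ∉ CohB1.support I) : IsZero I := by
  have hsec : ∀ (U : Z.Opens) (f : Γ(I, U)), f = 0 := by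
    intro U f
    rcases Set.eq_empty_or_nonempty (U : Set Z) with hU | hU
    · refine res_ext I (ι := PEmpty.{1}) (fun i => i.elim) (fun i => i.elim) ?_ (fun i => i.elim)
      intro x hx
      have : x ∈ (U : Set Z) := hx
      rw [hU] at this
      exact absurd this (Set.notMem_empty x)
    · have hη : genericPoint Z ∈ U := ((genericPoint_spec Z).mem_open_set_iff U.isOpen).mpr (by simpa using hU)
      rw [CohqB.DevSupport.not_mem_support_iff] at h
      obtain ⟨W, hW, hηW, h0⟩ := Fga.RegSec.exists_res_eq_zero I hη f (Subsingleton.elim _ _)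
      have hinj := (Ega1.SubSheaf.mono_iff_injective ι).mp inferInstance
      apply hinj U
      rw [map_zero]
      have h1 : res (Coh.structureModule Z) hW (ι.app U f) = 0 := by
        rw [← app_res, h0, map_zero]
      have : Nonempty W := ⟨⟨_, hηW⟩⟩
      have h2 := map_injective_of_isIntegral Z (homOfLE hW)
      apply h2
      refine h1.trans ?_
      exact (map_zero _).symm
  apply CohqB.DevSupport.isZero_of_support_eq_empty
  rw [Set.eq_empty_iff_forall_notMem]
  intro x hx
  apply hx
  refine subsingleton_of_forall_eq 0 fun p => ?_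
  obtain ⟨V, hxV, f, rfl⟩ := TopCat.Presheaf.exists_germ_eq I.presheaf p
  rw [hsec V f, map_zero]

/-- the support of `i_* I` for an ideal sheaf `I` nonzero at the generic point. -/
theorem support_push_eq_closure {Z : Scheme.{u}} [IsIntegral Z] (i : Z ⟶ X) [IsClosedImmersion i]
    {I : Z.Modules} (hI : Coh.IsCoh I) (h : genericPoint Z ∈ CohB1.support I) :
    CohB1.support ((Coh.push i).obj I) = closure {i (genericPoint Z)} := by
  have h1 : CohB1.support I = Set.univ := by
    have hc : IsClosed (CohB1.support I) := S0020.result Z I hI.2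
    rw [Set.eq_univ_iff_forall]
    intro z
    exact (genericPoint_specializes z).mem_closed hc h
  have h2 := (genericPoint_spec Z).image i.continuous
  have h3 : closure {i (genericPoint Z)} = closure (i '' Set.univ) := h2
  rw [CohqB.DevSimple.support_push, h1, h3, Set.image_univ, i.isClosedEmbedding.isClosed_range.closure_eq]

/-- **Dévissage by irreducible supports**, for modules with support in a class `Q` of subsets. -/
theorem devissage_gen [IsNoetherian X] (Q : Set X → Prop) (hQ : ∀ A B : Set X, A ⊆ B → Q B → Q A)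
    (P : X.Modules → Prop)
    (hiso : ∀ M N : X.Modules, Nonempty (M ≅ N) → P M → P N)
    (hzero : ∀ M : X.Modules, IsZero M → P M)
    (hmid : ∀ S : ShortComplex X.Modules, S.ShortExact → Coh.IsCoh S.X₁ → Coh.IsCoh S.X₂ →
      Coh.IsCoh S.X₃ → P S.X₁ → P S.X₃ → P S.X₂)
    (hirr : ∀ (G : X.Modules) (ξ : X), Coh.IsCoh G → CohB1.support G = closure {ξ} →
      Q (CohB1.support G) → P G)
    (F : X.Modules) (hF : Coh.IsCoh F) (hd : Q (CohB1.support F)) : P F := by
  rcases isEmpty_or_nonempty X with hemp | hne
  · refine hzero F (isZero_of_support_eq_empty (Set.eq_empty_of_isEmpty _))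
  refine S0027.result X (fun F => Q (CohB1.support F) → P F) ?_ ?_ ?_ F hF hd
  · rintro M N ⟨a⟩ h hN
    exact hiso M N ⟨a⟩ (h (by rwa [support_congr a]))
  · intro S hS c1 c2 c3 h1 h3 h2
    have hsub := support_shortExact hS
    refine hmid S hS c1 c2 c3 (h1 (hQ _ _ ?_ h2)) (h3 (hQ _ _ ?_ h2))
    · rw [hsub]; exact Set.subset_union_left
    · rw [hsub]; exact Set.subset_union_right
  · intro Z i hi hZ I ι hι hI hdim
    by_cases hg : genericPoint Z ∈ CohB1.support I
    · have hZN : IsLocallyNoetherian Z := LocallyOfFiniteType.isLocallyNoetherian i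
      have hO : Coh.IsCoh (Coh.structureModule Z) :=
        VarietyA.CurveFin.isCoh_of_isInvertible isInvertible_structureModule
      have hIc : Coh.IsCoh I := S0046.result Z _ _ ι hO hI
      have hpc : Coh.IsCoh ((Coh.push i).obj I) :=
        have : IsLocallyNoetherian X := inferInstance
        S0019.result i I hIc
      exact hirr _ _ hpc (support_push_eq_closure i hIc hg) hdim
    · exact hzero _ ((Coh.push i).map_isZero (isZero_of_torsion ι hg))

/-- **Dévissage by irreducible supports**, supports of dimension `≤ e`. -/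
theorem devissage [IsNoetherian X] (e : ℕ) (P : X.Modules → Prop)
    (hiso : ∀ M N : X.Modules, Nonempty (M ≅ N) → P M → P N)
    (hzero : ∀ M : X.Modules, IsZero M → P M)
    (hmid : ∀ S : ShortComplex X.Modules, S.ShortExact → Coh.IsCoh S.X₁ → Coh.IsCoh S.X₂ →
      Coh.IsCoh S.X₃ → P S.X₁ → P S.X₃ → P S.X₂)
    (hirr : ∀ (G : X.Modules) (ξ : X), Coh.IsCoh G → CohB1.support G = closure {ξ} →
      topologicalKrullDim (CohB1.support G) ≤ (e : WithBot ℕ∞) → P G)
    (F : X.Modules) (hF : Coh.IsCoh F) (hd : topologicalKrullDim (CohB1.support F) ≤ (e : WithBot ℕ∞)) :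
    P F :=
  devissage_gen (fun A => topologicalKrullDim A ≤ (e : WithBot ℕ∞))
    (fun _ _ h1 h2 => (Fga.DimLt.topologicalKrullDim_mono h1).trans h2) P hiso hzero hmid hirr F hF hd

/-- a coherent module supported in an irreducible set and zero at the generic point has smaller dimension. -/
theorem dim_support_lt {K : X.Modules} (hK : Coh.IsCoh K) {A : Set X} {ξ : X} (hA : A = closure {ξ})
    (hsub : CohB1.support K ⊆ A) (hξ : ξ ∉ CohB1.support K) {e : ℕ}
    (hd : topologicalKrullDim A < ((e + 1 : ℕ) : WithBot ℕ∞)) :
    topologicalKrullDim (CohB1.support K) < (e : WithBot ℕ∞) := by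
  refine Fga.DimLt.topologicalKrullDim_lt (A := A) ?_ (S0020.result X K hK.2) hsub ?_ hd
  · rw [hA]; exact isIrreducible_singleton.closure
  · intro h
    rw [h, hA] at hξ
    exact hξ (subset_closure rfl)

theorem dim_support_le {K : X.Modules} (hK : Coh.IsCoh K) {A : Set X} {ξ : X} (hA : A = closure {ξ})
    (hsub : CohB1.support K ⊆ A) (hξ : ξ ∉ CohB1.support K) {e : ℕ}
    (hd : topologicalKrullDim A ≤ ((e + 1 : ℕ) : WithBot ℕ∞)) :
    topologicalKrullDim (CohB1.support K) ≤ (e : WithBot ℕ∞) :=
  withBot_le_of_lt_succ (dim_support_lt hK hA hsub hξ (withBot_lt_succ hd))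

/-- The multiplication map by a section of an invertible module. -/
theorem exists_mul {N : X.Modules} (hN : PicF.IsInvertible N) (s : Coh.structureModule X ⟶ N) {ξ : X}
    (hs : ξ ∈ CohB1.genLocus N s) (F : X.Modules) :
    ∃ φ : F ⟶ CohB1.tensorMod F N, ξ ∉ CohB1.support (kernel φ) ∧ ξ ∉ CohB1.support (cokernel φ) ∧
      CohB1.support (kernel φ) ⊆ CohB1.support F ∧ CohB1.support (cokernel φ) ⊆ CohB1.support F := by
  refine ⟨mulSec (sec s ⊤) F, ?_, ?_, support_subset_of_mono (kernel.ι _), ?_⟩
  · have hg : IsGen (res N (le_top : CohB1.genLocus N s ≤ ⊤) (sec s ⊤)) := by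
      rw [res_sec]; exact isGen_sec_genLocus s
    refine not_mem_support_of_sections _ (CohB1.genLocus N s) (fun V hV => ?_) ξ hs
    exact subsingleton_of_forall_eq 0 (vanishOn_kernel_mulSec (sec s ⊤) F hg V hV)
  · have hg : IsGen (res N (le_top : CohB1.genLocus N s ≤ ⊤) (sec s ⊤)) := by
      rw [res_sec]; exact isGen_sec_genLocus s
    refine not_mem_support_of_sections _ (CohB1.genLocus N s) (fun V hV => ?_) ξ hs
    exact subsingleton_of_forall_eq 0 (vanishOn_cokernel_mulSec (sec s ⊤) F hg V hV)
  · refine (support_subset_of_epi (cokernel.π (mulSec (sec s ⊤) F))).trans ?_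
    rw [support_tw hN]

end K434.DevIrred
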