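import Groth.Agent.Fga.PicMon
import Groth.Agent.Fga.SnapperTwist
import Groth.Agent.Grpsch.PicGrp
import Groth.Agent.S2122
import Groth.Prelude.Def_W4c5asymptcohfnACF

/-!
# The classes of `ztwist`

`mc (ztwist X L M c) = ∏ u_j ^ c_j` for the units `u_j = mc (L_j)`.
-/

set_option autoImplicit false
universe u
open CategoryTheory CategoryTheory.Limits AlgebraicGeometry Opposite TopologicalSpace

namespace K434.ZTwist

open Groth.Agent Groth.Agent.Fdesc.LocGen Groth.Agent.Fga.PicMon Groth.Agent.Ega2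

variable {X : Scheme.{u}} {r : ℕ}

theorem isInvertible_of_inverse {L M : X.Modules} (h : ClSub.IsInverseOf L M) :
    PicF.IsInvertible L ∧ PicF.IsInvertible M := by
  obtain ⟨e⟩ := h
  exact ⟨Groth.Agent.S2122.result L M e, Groth.Agent.S2122.result M L
    ((Groth.Agent.Ega2.Tens.swap M L) ≪≫ e)⟩

theorem mc_mul_eq_one {L M : X.Modules} (h : ClSub.IsInverseOf L M) : mc L * mc M = 1 := by
  rw [← mc_tensor, ← mc_one, mc_eq_iff]
  exact h

/-- The unit given by an invertible module and an inverse. -/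
noncomputable def unit {L M : X.Modules} (h : ClSub.IsInverseOf L M) : (MC X)ˣ :=
  ⟨mc L, mc M, mc_mul_eq_one h, by rw [mul_comm]; exact mc_mul_eq_one h⟩

@[simp] theorem val_unit {L M : X.Modules} (h : ClSub.IsInverseOf L M) : (unit h : MC X) = mc L := rfl

@[simp] theorem val_inv_unit {L M : X.Modules} (h : ClSub.IsInverseOf L M) :
    ((unit h)⁻¹ : (MC X)ˣ) = (mc M : MC X) := rfl

theorem exists_isInverseOf {L : X.Modules} (hL : PicF.IsInvertible L) : ∃ M, ClSub.IsInverseOf L M := by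
  obtain ⟨M, hM, h⟩ := Grpsch.PicGrp.exists_inverse hL
  exact ⟨M, h⟩

variable (L M : Fin r → X.Modules) (hM : ∀ j, ClSub.IsInverseOf (L j) (M j))

include hM

theorem isInvertible_ztwist (c : Fin r → ℤ) : PicF.IsInvertible (W4c5asymptcohfn.ztwist X L M c) :=
  isInvertible_tensorMod
    (Fga.SnapperTwist.isInvertible_multiTwist L (fun j => (isInvertible_of_inverse (hM j)).1) _)
    (Fga.SnapperTwist.isInvertible_multiTwist M (fun j => (isInvertible_of_inverse (hM j)).2) _)

theorem mc_ztwist (c : Fin r → ℤ) :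
    mc (W4c5asymptcohfn.ztwist X L M c) = ((∏ j, unit (hM j) ^ c j : (MC X)ˣ) : MC X) := by
  unfold W4c5asymptcohfn.ztwist
  rw [mc_tensor, mc_multiTwist, mc_multiTwist, ← Finset.prod_mul_distrib, Units.coe_prod]
  refine Finset.prod_congr rfl fun j _ => ?_
  rcases le_total 0 (c j) with hc | hc
  · obtain ⟨m, hm⟩ := Int.eq_ofNat_of_zero_le hc
    rw [hm]
    simp
  · obtain ⟨m, hm⟩ := Int.eq_ofNat_of_zero_le (Int.neg_nonneg.2 hc)
    have hm' : c j = -(m : ℤ) := by omega
    rw [hm']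
    have h1 : ((-(m : ℤ))).toNat = 0 := by omega
    have h2 : (- -(m : ℤ)).toNat = m := by omega
    rw [h1, h2, pow_zero, one_mul, zpow_neg, zpow_natCast, ← inv_pow, Units.val_pow_eq_pow_val]
    rfl

theorem mc_ztwist_step (c : Fin r → ℤ) (j : Fin r) :
    mc (W4c5asymptcohfn.ztwist X L M (c + Pi.single j 1)) =
      mc (L j) * mc (W4c5asymptcohfn.ztwist X L M c) := by
  rw [mc_ztwist L M hM, mc_ztwist L M hM, ← val_unit (hM j), ← Units.val_mul]
  congr 1
  simp only [Pi.add_apply, zpow_add, Finset.prod_mul_distrib]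
  rw [mul_comm]
  congr 1
  rw [Finset.prod_eq_single j]
  · simp
  · intro i _ hij
    simp [hij]
  · intro h
    exact absurd (Finset.mem_univ j) h

theorem mc_ztwist_zero : mc (W4c5asymptcohfn.ztwist X L M 0) = 1 := by
  rw [mc_ztwist L M hM]
  simp

theorem mc_ztwist_pow (c : Fin r → ℤ) (m : ℕ) :
    mc (CohB1.tensorPow (W4c5asymptcohfn.ztwist X L M c) m) =
      mc (W4c5asymptcohfn.ztwist X L M (fun j => (m : ℤ) * c j)) := by
  rw [mc_tensorPow, mc_ztwist L M hM, mc_ztwist L M hM, ← Units.val_pow_eq_pow_val]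
  congr 1
  rw [← Finset.prod_pow]
  refine Finset.prod_congr rfl fun j _ => ?_
  rw [← zpow_natCast, ← zpow_mul, mul_comm]

omit hM in
/-- powers of a single module as twists. -/
theorem mc_pow_eq {L M : X.Modules} (h : ClSub.IsInverseOf L M) (m : ℕ) :
    mc (CohB1.tensorPow L m) =
      mc (W4c5asymptcohfn.ztwist X (fun _ : Fin 1 => L) (fun _ => M) (fun _ => (m : ℤ))) := by
  rw [mc_tensorPow, mc_ztwist (fun _ : Fin 1 => L) (fun _ => M) (fun _ => h)]
  simp

end K434.ZTwist
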