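import Mathlib.Topology.Algebra.Order.LiminfLimsup
import Mathlib.Analysis.SpecificLimits.Basic
import Mathlib.Analysis.Asymptotics.Lemmas

/-!
# Upper limits of real sequences

`Filter.limsup` of a real sequence along `atTop`, including the unbounded cases (`sInf ∅ = 0`).
* `limsup_congr_of_tendsto_sub`: `u - v → 0` gives `limsup u = limsup v` (no boundedness assumption).
* `limsup_nonneg`, `limsup_le`, `limsup_eq_zero_of_tendsto`, `limsup_const_mul'`.
* `abs_limsup_sub_le`: `|u - v| ≤ C` eventually and both bounded gives `|limsup u - limsup v| ≤ C`.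
* `tendsto_of_bound`: `|a m| ≤ C (m+1)^(n-1)`, `n ≥ 1`, gives `a m * c / m^n → 0`.
-/

set_option autoImplicit false

namespace K434.Limsup

open Filter Topology Pointwise

/-- the set whose infimum is the limsup. -/
theorem limsup_def (u : ℕ → ℝ) : limsup u atTop = sInf {a | ∀ᶠ n in atTop, u n ≤ a} :=
  Filter.limsup_eq

theorem mem_of_tendsto_sub {u v : ℕ → ℝ} (h : Tendsto (fun n => u n - v n) atTop (𝓝 0))
    {a ε : ℝ} (hε : 0 < ε) (ha : ∀ᶠ n in atTop, u n ≤ a) : ∀ᶠ n in atTop, v n ≤ a + ε := by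
  have h1 : ∀ᶠ n in atTop, -ε < u n - v n := h.eventually (lt_mem_nhds (by linarith))
  filter_upwards [ha, h1] with n h2 h3
  linarith

theorem limsup_le_aux {u v : ℕ → ℝ} (h : Tendsto (fun n => u n - v n) atTop (𝓝 0))
    (hne : {a | ∀ᶠ n in atTop, u n ≤ a}.Nonempty)
    (hbv : BddBelow {a | ∀ᶠ n in atTop, v n ≤ a}) : limsup v atTop ≤ limsup u atTop := by
  rw [limsup_def u, limsup_def v]
  refine le_csInf hne fun a ha => ?_
  refine le_of_forall_pos_le_add fun ε hε => ?_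
  exact csInf_le hbv (mem_of_tendsto_sub h hε ha)

theorem limsup_congr_of_tendsto_sub {u v : ℕ → ℝ}
    (h : Tendsto (fun n => u n - v n) atTop (𝓝 0)) : limsup u atTop = limsup v atTop := by
  have h' : Tendsto (fun n => v n - u n) atTop (𝓝 0) := by
    simpa using h.neg
  by_cases hne : {a | ∀ᶠ n in atTop, u n ≤ a}.Nonempty
  · have hne' : {a | ∀ᶠ n in atTop, v n ≤ a}.Nonempty := by
      obtain ⟨a, ha⟩ := hne
      exact ⟨a + 1, mem_of_tendsto_sub h one_pos ha⟩
    by_cases hb : BddBelow {a | ∀ᶠ n in atTop, u n ≤ a}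
    · have hb' : BddBelow {a | ∀ᶠ n in atTop, v n ≤ a} := by
        obtain ⟨b, hb⟩ := hb
        refine ⟨b - 1, fun a ha => ?_⟩
        have := hb (mem_of_tendsto_sub h' one_pos ha)
        linarith
      exact le_antisymm (limsup_le_aux h' hne' hb) (limsup_le_aux h hne hb')
    · have hb' : ¬ BddBelow {a | ∀ᶠ n in atTop, v n ≤ a} := by
        rintro ⟨b, hb'⟩
        refine hb ⟨b - 1, fun a ha => ?_⟩
        have := hb' (mem_of_tendsto_sub h one_pos ha)
        linarith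
      rw [limsup_def u, limsup_def v, Real.sInf_of_not_bddBelow hb, Real.sInf_of_not_bddBelow hb']
  · have hne' : ¬ {a | ∀ᶠ n in atTop, v n ≤ a}.Nonempty := by
      rintro ⟨a, ha⟩
      exact hne ⟨a + 1, mem_of_tendsto_sub h' one_pos ha⟩
    rw [Set.not_nonempty_iff_eq_empty] at hne hne'
    rw [limsup_def u, limsup_def v, hne, hne']

theorem bddBelow_of_nonneg {u : ℕ → ℝ} (h : ∀ᶠ n in atTop, 0 ≤ u n) :
    BddBelow {a | ∀ᶠ n in atTop, u n ≤ a} := by
  refine ⟨0, fun a ha => ?_⟩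
  obtain ⟨n, h1, h2⟩ := (h.and ha).exists
  exact h1.trans h2

theorem limsup_nonneg {u : ℕ → ℝ} (h : ∀ᶠ n in atTop, 0 ≤ u n) : 0 ≤ limsup u atTop := by
  rw [limsup_def]
  refine Real.sInf_nonneg fun a ha => ?_
  obtain ⟨n, h1, h2⟩ := (h.and ha).exists
  exact h1.trans h2

theorem limsup_le {u : ℕ → ℝ} (h : ∀ᶠ n in atTop, 0 ≤ u n) {C : ℝ} (hC : ∀ᶠ n in atTop, u n ≤ C) :
    limsup u atTop ≤ C := by
  rw [limsup_def]
  exact csInf_le (bddBelow_of_nonneg h) hC

theorem limsup_eq_zero_of_tendsto {u : ℕ → ℝ} (h : Tendsto u atTop (𝓝 0)) :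
    limsup u atTop = 0 := h.limsup_eq

/-- `|u - v| ≤ C` eventually, both nonnegative and `v` bounded above. -/
theorem limsup_le_add {u v : ℕ → ℝ} (hu : ∀ᶠ n in atTop, 0 ≤ u n) {C B : ℝ}
    (hB : ∀ᶠ n in atTop, v n ≤ B)
    (h : ∀ᶠ n in atTop, u n ≤ v n + C) : limsup u atTop ≤ limsup v atTop + C := by
  rw [limsup_def u, limsup_def v, ← sub_le_iff_le_add]
  refine le_csInf ⟨B, hB⟩ fun a ha => ?_
  rw [sub_le_iff_le_add]
  refine csInf_le (bddBelow_of_nonneg hu) ?_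
  filter_upwards [ha, h] with n h1 h2
  linarith

theorem abs_limsup_sub_le {u v : ℕ → ℝ} (hu : ∀ᶠ n in atTop, 0 ≤ u n)
    (hv : ∀ᶠ n in atTop, 0 ≤ v n) {C B B' : ℝ} (hB : ∀ᶠ n in atTop, u n ≤ B)
    (hB' : ∀ᶠ n in atTop, v n ≤ B')
    (h : ∀ᶠ n in atTop, |u n - v n| ≤ C) : |limsup u atTop - limsup v atTop| ≤ C := by
  rw [abs_sub_le_iff]
  constructor
  · rw [sub_le_iff_le_add']
    refine limsup_le_add hu hB' ?_
    filter_upwards [h] with n hn
    linarith [(abs_sub_le_iff.1 hn).1]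
  · rw [sub_le_iff_le_add']
    refine limsup_le_add hv hB ?_
    filter_upwards [h] with n hn
    linarith [(abs_sub_le_iff.1 hn).2]

theorem limsup_const_mul' {u : ℕ → ℝ} (r : ℝ) (hr : 0 ≤ r) :
    limsup (fun n => r * u n) atTop = r * limsup u atTop := by
  rcases hr.eq_or_lt with rfl | hr
  · simp only [zero_mul]
    exact tendsto_const_nhds.limsup_eq
  · rw [limsup_def, limsup_def]
    have : {a | ∀ᶠ n in atTop, r * u n ≤ a} = r • {a | ∀ᶠ n in atTop, u n ≤ a} := by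
      ext a
      rw [Set.mem_smul_set_iff_inv_smul_mem₀ hr.ne']
      simp only [Set.mem_ofPred_eq, smul_eq_mul]
      refine eventually_congr (Eventually.of_forall fun n => ?_)
      rw [← div_eq_inv_mul, le_div_iff₀ hr, mul_comm]
    rw [this, Real.sInf_smul_of_nonneg hr.le, smul_eq_mul]

/-- `|a m| ≤ C (m+1)^(n-1)` with `n ≥ 1` gives `a m * c / m^n → 0`. -/
theorem tendsto_div_pow {a : ℕ → ℝ} {C c : ℝ} {n : ℕ} (hn : 1 ≤ n)
    (h : ∀ᶠ m : ℕ in atTop, |a m| ≤ C * ((m : ℝ) + 1) ^ (n - 1)) :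
    Tendsto (fun m : ℕ => a m * c / (m : ℝ) ^ n) atTop (𝓝 0) := by
  have hlim : Tendsto (fun m : ℕ => C * (2 : ℝ) ^ (n - 1) * |c| / (m : ℝ)) atTop (𝓝 0) :=
    tendsto_const_div_atTop_nhds_zero_nat _
  refine squeeze_zero_norm' ?_ hlim
  filter_upwards [h, eventually_ge_atTop 1] with m h1 h2
  have hm : (1 : ℝ) ≤ m := by exact_mod_cast h2
  have hm0 : (0 : ℝ) < m := by linarith
  have hC : 0 ≤ C := by
    by_contra hC
    push Not at hC
    have h3 : C * ((m : ℝ) + 1) ^ (n - 1) < 0 := mul_neg_of_neg_of_pos hC (by positivity)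
    linarith [abs_nonneg (a m)]
  rw [Real.norm_eq_abs, abs_div, abs_mul, abs_of_pos (pow_pos hm0 n)]
  rw [div_le_div_iff₀ (pow_pos hm0 n) hm0]
  have h4 : ((m : ℝ) + 1) ^ (n - 1) ≤ 2 ^ (n - 1) * (m : ℝ) ^ (n - 1) := by
    rw [← mul_pow]
    exact pow_le_pow_left₀ (by positivity) (by linarith) _
  have h5 : (m : ℝ) ^ n = (m : ℝ) ^ (n - 1) * m := by
    rw [← pow_succ, Nat.sub_add_cancel hn]
  calc |a m| * |c| * (m : ℝ) ≤ (C * (2 ^ (n - 1) * (m : ℝ) ^ (n - 1))) * |c| * m := by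
        gcongr
        exact h1.trans (by gcongr)
    _ = C * 2 ^ (n - 1) * |c| * (m : ℝ) ^ n := by rw [h5]; ring

/-- two sequences of (cohomology) dimensions differing by `O(m^(n-1))` have the same normalised upper limit. -/
theorem limsup_eq_of_abs_sub_le {a b : ℕ → ℝ} {C c : ℝ} {n : ℕ} (hn : 1 ≤ n)
    (h : ∀ᶠ m : ℕ in atTop, |a m - b m| ≤ C * ((m : ℝ) + 1) ^ (n - 1)) :
    limsup (fun m : ℕ => a m * c / (m : ℝ) ^ n) atTop =
      limsup (fun m : ℕ => b m * c / (m : ℝ) ^ n) atTop := by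
  refine limsup_congr_of_tendsto_sub ?_
  refine (tendsto_div_pow (c := c) hn h).congr fun m => ?_
  ring

/-- residue classes modulo `p` with the same behaviour. -/
theorem limsup_mul_left {u : ℕ → ℝ} {p : ℕ} (hp : 0 < p)
    (h : ∀ r < p, Tendsto (fun m => u (p * m + r) - u (p * m)) atTop (𝓝 0)) :
    limsup u atTop = limsup (fun m => u (p * m)) atTop := by
  have hdiv : Tendsto (fun n : ℕ => n / p) atTop atTop := Nat.tendsto_div_const_atTop hp.ne'
  have h1 : Tendsto (fun n => u n - u (p * (n / p))) atTop (𝓝 0) := by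
    rw [Metric.tendsto_nhds]
    intro ε hε
    have h2 : ∀ᶠ m in atTop, ∀ r ∈ Finset.range p, |u (p * m + r) - u (p * m)| < ε := by
      rw [Finset.eventually_all]
      intro r hr
      have := (Metric.tendsto_nhds.1 (h r (Finset.mem_range.1 hr))) ε hε
      simpa [Real.dist_eq] using this
    filter_upwards [hdiv.eventually h2] with n hn
    have h3 := hn (n % p) (Finset.mem_range.2 (Nat.mod_lt _ hp))
    rw [Nat.div_add_mod] at h3
    simpa [Real.dist_eq] using h3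
  rw [limsup_congr_of_tendsto_sub h1, limsup_def, limsup_def]
  congr 1
  ext a
  constructor
  · intro ha
    have hmul : Tendsto (fun m : ℕ => p * m) atTop atTop :=
      Filter.tendsto_id.const_mul_atTop' hp
    filter_upwards [hmul.eventually ha] with m hm
    rwa [Nat.mul_div_cancel_left _ hp] at hm
  · intro ha
    exact hdiv.eventually ha

/-- `0 ≤ u ≤ v` and `v → l`. -/
theorem limsup_le_of_tendsto {u v : ℕ → ℝ} {l : ℝ} (hu : ∀ᶠ n in atTop, 0 ≤ u n)
    (huv : ∀ᶠ n in atTop, u n ≤ v n) (hv : Tendsto v atTop (𝓝 l)) : limsup u atTop ≤ l := by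
  refine le_of_forall_pos_le_add fun ε hε => limsup_le hu ?_
  filter_upwards [huv, hv.eventually (gt_mem_nhds (show l < l + ε by linarith))] with n h1 h2
  exact h1.trans h2.le

/-- `|u - v| ≤ w` and `w → l`, `u`, `v` nonnegative and bounded. -/
theorem abs_limsup_sub_le_of_tendsto {u v w : ℕ → ℝ} {l : ℝ} (hu : ∀ᶠ n in atTop, 0 ≤ u n)
    (hv : ∀ᶠ n in atTop, 0 ≤ v n) {B B' : ℝ} (hB : ∀ᶠ n in atTop, u n ≤ B)
    (hB' : ∀ᶠ n in atTop, v n ≤ B') (h : ∀ᶠ n in atTop, |u n - v n| ≤ w n)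
    (hw : Tendsto w atTop (𝓝 l)) : |limsup u atTop - limsup v atTop| ≤ l := by
  refine le_of_forall_pos_le_add fun ε hε => abs_limsup_sub_le hu hv hB hB' ?_
  filter_upwards [h, hw.eventually (gt_mem_nhds (show l < l + ε by linarith))] with n h1 h2
  exact h1.trans h2.le

/-- `(m x + 1)^n / m^n → x^n`. -/
theorem tendsto_mul_add_one_pow_div (x : ℝ) (n : ℕ) :
    Tendsto (fun m : ℕ => ((m : ℝ) * x + 1) ^ n / (m : ℝ) ^ n) atTop (𝓝 (x ^ n)) := by
  have h1 : Tendsto (fun m : ℕ => (x + 1 / (m : ℝ)) ^ n) atTop (𝓝 ((x + 0) ^ n)) :=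
    (tendsto_const_nhds.add tendsto_one_div_atTop_nhds_zero_nat).pow n
  rw [add_zero] at h1
  refine h1.congr' ?_
  filter_upwards [eventually_ge_atTop 1] with m hm
  have hm0 : (m : ℝ) ≠ 0 := by
    have : (0 : ℝ) < m := by exact_mod_cast hm
    exact this.ne'
  rw [← div_pow, add_div, mul_div_cancel_left₀ _ hm0]

end K434.Limsup
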