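import Groth.Agent.Variety.K434.Growth
import Groth.Agent.Variety.K434.ZTwist
import Groth.Agent.Variety.K434.Limsup

/-!
# Asymptotic cohomological functions: growth, continuity and torsion invariance

`X` proper over a field `k` with an ample invertible module.
* `hhat_le`, `hhat_lipschitz`: `ĥ^i(L^a) ≤ C |a|^n` and
  `|ĥ^i(L^a) - ĥ^i(L^b)| ≤ C max(|a|, |b|)^(n-1) |a - b|` (`= 0` if `n = 0`) for `X` integral of dimension `n`.
* `hhatF_congr`: a map of coherent modules with kernel and cokernel of support of dimension `< n` does not change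
  `ĥ^i(F; L)`.
-/

set_option autoImplicit false
universe u
open CategoryTheory CategoryTheory.Limits AlgebraicGeometry Opposite TopologicalSpace

namespace K434.Asymp

open Groth.Agent Groth.Agent.Ega2 Groth.Agent.Fdesc.LocGen Groth.Agent.CohqB.SerTw
open Groth.Agent.Fga.PicMon Groth.Agent.Pic13.H946.Core Groth.Agent.CohqB.DevSupport
open K434.HBound K434.DevIrred K434.Steps K434.Growth K434.ZTwist W4c5asymptcohfn

variable (k : Type u) [Field k] {X : Scheme.{u}} [X.Over (Spec (CommRingCat.of k))]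

theorem support_structureModule (X : Scheme.{u}) : CohB1.support (Coh.structureModule X) = Set.univ := by
  rw [Set.eq_univ_iff_forall]
  intro x
  by_contra hx
  rw [not_mem_support_iff] at hx
  obtain ⟨W, hW, hxW, h0⟩ := Fga.RegSec.exists_res_eq_zero (Coh.structureModule X) (show x ∈ (⊤ : X.Opens) from trivial)
    (one ⊤) (Subsingleton.elim _ _)
  rw [res_one] at h0
  have : Nonempty W := ⟨⟨_, hxW⟩⟩
  have h1 : (1 : Γ(X, W)) = 0 := h0
  exact one_ne_zero h1

/-- `O_X` on an integral scheme has irreducible support. -/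
theorem support_structureModule_eq_closure (X : Scheme.{u}) [IsIntegral X] :
    CohB1.support (Coh.structureModule X) = closure {genericPoint X} := by
  rw [support_structureModule, genericPoint_closure]

theorem h_structureModule_tensor (F : X.Modules) (i : ℕ) :
    h k (CohB1.tensorMod (Coh.structureModule X) F) i = h k F i := by
  refine h_congr k ?_ i
  rw [mc_tensor, mc_one, one_mul]

theorem topologicalKrullDim_empty_lt {T : Type*} [TopologicalSpace T] (n : ℕ) :
    topologicalKrullDim (∅ : Set T) < (n : WithBot ℕ∞) := by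
  have : IsEmpty (IrreducibleCloseds (∅ : Set T)) := ⟨fun s => by
    obtain ⟨x, -⟩ := s.isIrreducible.nonempty
    exact x.2⟩
  unfold topologicalKrullDim
  rw [Order.krullDim_eq_bot]
  exact WithBot.bot_lt_coe _

theorem hhat_congr {M N : X.Modules} (e : mc M = mc N) (n i : ℕ) : hhat k X n i M = hhat k X n i N := by
  unfold hhat
  congr 1
  funext m
  have h1 : Module.finrank k (Coh.HH X (CohB1.tensorPow M m) i) =
      Module.finrank k (Coh.HH X (CohB1.tensorPow N m) i) := by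
    refine h_congr k ?_ i
    rw [mc_tensorPow, mc_tensorPow, e]
  rw [h1]

section Int

variable [IsProper (X ↘ Spec (CommRingCat.of k))] [IsIntegral X] {A : X.Modules} (hA : CohB1.IsAmple A)
  (n : ℕ) (hn : topologicalKrullDim X = n)
  {r : ℕ} (L M : Fin r → X.Modules) (hM : ∀ j, ClSub.IsInverseOf (L j) (M j)) (i : ℕ)

include hA hn hM

omit [IsIntegral X] in
theorem growth_O : ∃ C : ℝ, 0 ≤ C ∧ ∀ c : Fin r → ℤ, (h k (ztwist X L M c) i : ℝ) ≤ C * (nm c + 1) ^ n := by
  have hO : Coh.IsCoh (Coh.structureModule X) := Fga.HodgeSec.isCoh_of_isInvertible isInvertible_structureModule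
  obtain ⟨C, hC, h1⟩ := growth (k := k) (isInvertible_ztwist L M hM) (fun j => (isInvertible_of_inverse (hM j)).1)
    (mc_ztwist_step L M hM) hA (n + 1) (Coh.structureModule X) hO
    (lt_of_le_of_lt Topology.IsInducing.subtypeVal.topologicalKrullDim_le
      (by rw [hn]; exact_mod_cast Nat.lt_succ_self n)) i
  refine ⟨C, hC, fun c => ?_⟩
  have h2 := h1 c
  rwa [h_structureModule_tensor, bdR_succ] at h2

theorem step_O : ∃ C : ℝ, 0 ≤ C ∧ ∀ (c : Fin r → ℤ) (j : Fin r),
    |(h k (ztwist X L M (c + Pi.single j 1)) i : ℝ) - h k (ztwist X L M c) i| ≤ C * bdR n (nm c) := by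
  have hO : Coh.IsCoh (Coh.structureModule X) := Fga.HodgeSec.isCoh_of_isInvertible isInvertible_structureModule
  choose C hC h1 using fun j : Fin r => diff_twist (k := k) (isInvertible_ztwist L M hM)
    (fun j => (isInvertible_of_inverse (hM j)).1) (mc_ztwist_step L M hM) hA (e := n) hO
    (support_structureModule_eq_closure X)
    (lt_of_le_of_lt Topology.IsInducing.subtypeVal.topologicalKrullDim_le
      (by rw [hn]; exact_mod_cast Nat.lt_succ_self n)) (isInvertible_of_inverse (hM j)).1 i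
  refine ⟨∑ j, C j, Finset.sum_nonneg fun j _ => hC j, fun c j => ?_⟩
  have h2 := h1 j c
  have h3 : h k (CohB1.tensorMod (CohB1.tensorMod (Coh.structureModule X) (L j)) (ztwist X L M c)) i =
      h k (ztwist X L M (c + Pi.single j 1)) i := by
    refine h_congr k ?_ i
    rw [mc_tensor, mc_tensor, mc_one, one_mul, mc_ztwist_step L M hM]
  rw [h3, h_structureModule_tensor] at h2
  refine h2.trans (mul_le_mul_of_nonneg_right ?_ (bdR_nonneg n (nm_nonneg c)))
  exact Finset.single_le_sum (f := C) (fun j _ => hC j) (Finset.mem_univ j)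

theorem path_O : ∃ C : ℝ, 0 ≤ C ∧ ∀ a b : Fin r → ℤ,
    |(h k (ztwist X L M a) i : ℝ) - h k (ztwist X L M b) i| ≤
      C * bdR n (max (nm a) (nm b)) * nm (a - b) := by
  obtain ⟨C, hC, h1⟩ := step_O k hA n hn L M hM i
  refine ⟨C * r, by positivity, fun a b => ?_⟩
  have hR : 0 ≤ max (nm a) (nm b) := (nm_nonneg a).trans (le_max_left _ _)
  have hB := bdR_nonneg n hR
  have h2 := abs_sub_le_of_steps (u := fun c => (h k (ztwist X L M c) i : ℝ)) (R := max (nm a) (nm b))
    (K := C * bdR n (max (nm a) (nm b)))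
    (fun c j hc _ => (h1 c j).trans (mul_le_mul_of_nonneg_left (bdR_mono n (nm_nonneg c) hc) hC))
    b (le_max_right _ _) a (le_max_left _ _)
  have h3 : ∑ j, |((a j - b j : ℤ) : ℝ)| ≤ r * nm (a - b) := sum_abs_le (a - b)
  calc _ ≤ C * bdR n (max (nm a) (nm b)) * ∑ j, |((a j - b j : ℤ) : ℝ)| := h2
    _ ≤ C * bdR n (max (nm a) (nm b)) * (r * nm (a - b)) :=
        mul_le_mul_of_nonneg_left h3 (mul_nonneg hC hB)
    _ = C * r * bdR n (max (nm a) (nm b)) * nm (a - b) := by ring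

omit hA hn [IsIntegral X] [IsProper (X ↘ Spec (CommRingCat.of k))] in
theorem hhat_eq (a : Fin r → ℤ) : hhat k X n i (ztwist X L M a) =
    Filter.limsup (fun m : ℕ => (h k (ztwist X L M (fun j => (m : ℤ) * a j)) i : ℝ) * (n.factorial : ℝ) /
      (m : ℝ) ^ n) Filter.atTop := by
  unfold hhat
  congr 1
  funext m
  have h1 : Module.finrank k (Coh.HH X (CohB1.tensorPow (ztwist X L M a) m) i) =
      h k (ztwist X L M (fun j => (m : ℤ) * a j)) i :=
    h_congr k (mc_ztwist_pow L M hM a m) i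
  rw [h1]

omit [IsIntegral X] in
theorem hhat_bound : ∃ C : ℝ, 0 ≤ C ∧ ∀ a : Fin r → ℤ,
    (∀ᶠ m : ℕ in Filter.atTop, (h k (ztwist X L M (fun j => (m : ℤ) * a j)) i : ℝ) * (n.factorial : ℝ) /
      (m : ℝ) ^ n ≤ C * (((m : ℝ) * nm a + 1) ^ n / (m : ℝ) ^ n)) := by
  obtain ⟨C, hC, h1⟩ := growth_O k hA n hn L M hM i
  refine ⟨C * n.factorial, by positivity, fun a => Filter.Eventually.of_forall fun m => ?_⟩
  have h2 := h1 (fun j => (m : ℤ) * a j)
  rw [nm_smul] at h2
  have h3 : (0 : ℝ) ≤ (m : ℝ) ^ n := by positivity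
  calc (h k (ztwist X L M (fun j => (m : ℤ) * a j)) i : ℝ) * (n.factorial : ℝ) / (m : ℝ) ^ n
      ≤ (C * ((m : ℝ) * nm a + 1) ^ n) * (n.factorial : ℝ) / (m : ℝ) ^ n := by gcongr
    _ = C * n.factorial * (((m : ℝ) * nm a + 1) ^ n / (m : ℝ) ^ n) := by ring

omit [IsIntegral X] in
theorem hhat_le : ∃ C : ℝ, 0 ≤ C ∧ ∀ a : Fin r → ℤ,
    hhat k X n i (ztwist X L M a) ≤ C * (nm a) ^ n := by
  obtain ⟨C, hC, h1⟩ := hhat_bound k hA n hn L M hM i
  refine ⟨C, hC, fun a => ?_⟩
  rw [hhat_eq k n L M hM i a]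
  exact Limsup.limsup_le_of_tendsto (Filter.Eventually.of_forall fun m => by positivity) (h1 a)
    ((Limsup.tendsto_mul_add_one_pow_div (nm a) n).const_mul C)

omit hn in
theorem hhat_lipschitz_succ (n : ℕ) (hn : topologicalKrullDim X = (n + 1 : ℕ)) :
    ∃ C : ℝ, 0 ≤ C ∧ ∀ a b : Fin r → ℤ,
    |hhat k X (n + 1) i (ztwist X L M a) - hhat k X (n + 1) i (ztwist X L M b)| ≤
      C * (max (nm a) (nm b)) ^ n * nm (a - b) := by
  obtain ⟨C₀, hC₀, h0⟩ := hhat_bound k hA (n + 1) hn L M hM i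
  obtain ⟨C, hC, h1⟩ := path_O k hA (n + 1) hn L M hM i
  refine ⟨C * (n + 1).factorial, by positivity, fun a b => ?_⟩
  rw [hhat_eq k (n + 1) L M hM i a, hhat_eq k (n + 1) L M hM i b]
  have hlim : ∀ a : Fin r → ℤ, Filter.Tendsto (fun m : ℕ => C₀ * (((m : ℝ) * nm a + 1) ^ (n + 1) / (m : ℝ) ^ (n + 1)))
      Filter.atTop (nhds (C₀ * nm a ^ (n + 1))) := fun a =>
    (Limsup.tendsto_mul_add_one_pow_div (nm a) (n + 1)).const_mul C₀
  have hbd : ∀ a : Fin r → ℤ, ∀ᶠ m : ℕ in Filter.atTop,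
      (h k (ztwist X L M (fun j => (m : ℤ) * a j)) i : ℝ) * ((n + 1).factorial : ℝ) / (m : ℝ) ^ (n + 1) ≤
        C₀ * nm a ^ (n + 1) + 1 := by
    intro a
    filter_upwards [h0 a, (hlim a).eventually (gt_mem_nhds (show C₀ * nm a ^ (n + 1) < C₀ * nm a ^ (n + 1) + 1 by
      linarith))] with m h2 h3
    exact h2.trans h3.le
  set R := max (nm a) (nm b) with hR
  have hw : Filter.Tendsto (fun m : ℕ => C * (n + 1).factorial * (((m : ℝ) * R + 1) ^ n / (m : ℝ) ^ n) * nm (a - b))
      Filter.atTop (nhds (C * (n + 1).factorial * R ^ n * nm (a - b))) :=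
    ((Limsup.tendsto_mul_add_one_pow_div R n).const_mul _).mul_const _
  refine Limsup.abs_limsup_sub_le_of_tendsto (Filter.Eventually.of_forall fun m => by positivity)
    (Filter.Eventually.of_forall fun m => by positivity) (hbd a) (hbd b) ?_ hw
  filter_upwards [Filter.eventually_ge_atTop 1] with m hm
  have hm0 : (0 : ℝ) < m := by exact_mod_cast hm
  have h2 := h1 (fun j => (m : ℤ) * a j) (fun j => (m : ℤ) * b j)
  have h3 : (fun j => (m : ℤ) * a j) - (fun j => (m : ℤ) * b j) = fun j => (m : ℤ) * (a - b) j := by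
    funext j
    simp [mul_sub]
  rw [h3, nm_smul, nm_smul, nm_smul, ← mul_max_of_nonneg _ _ hm0.le, ← hR, bdR_succ] at h2
  rw [← sub_div, ← sub_mul, abs_div, abs_mul, abs_of_pos (pow_pos hm0 (n + 1)),
    abs_of_nonneg (by positivity : (0 : ℝ) ≤ ((n + 1).factorial : ℝ))]
  have h4 : (0 : ℝ) < (m : ℝ) ^ (n + 1) := pow_pos hm0 _
  rw [div_le_iff₀ h4]
  calc |(h k (ztwist X L M fun j => (m : ℤ) * a j) i : ℝ) - h k (ztwist X L M fun j => (m : ℤ) * b j) i| *
        ((n + 1).factorial : ℝ)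
      ≤ (C * ((m : ℝ) * R + 1) ^ n * ((m : ℝ) * nm (a - b))) * ((n + 1).factorial : ℝ) := by gcongr
    _ = C * (n + 1).factorial * (((m : ℝ) * R + 1) ^ n / (m : ℝ) ^ n) * nm (a - b) * (m : ℝ) ^ (n + 1) := by
        rw [pow_succ]
        field_simp

omit hn in
theorem hhat_lipschitz_zero (hn : topologicalKrullDim X = (0 : ℕ)) (a b : Fin r → ℤ) :
    hhat k X 0 i (ztwist X L M a) = hhat k X 0 i (ztwist X L M b) := by
  obtain ⟨C, hC, h1⟩ := path_O k hA 0 hn L M hM i
  rw [hhat_eq k 0 L M hM i a, hhat_eq k 0 L M hM i b]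
  congr 1
  funext m
  have h2 := h1 (fun j => (m : ℤ) * a j) (fun j => (m : ℤ) * b j)
  rw [bdR_zero, mul_zero, zero_mul, abs_nonpos_iff, sub_eq_zero] at h2
  rw [h2]

end Int

section Tors

variable [IsProper (X ↘ Spec (CommRingCat.of k))] {A : X.Modules} (hA : CohB1.IsAmple A)
  (n : ℕ) {F G : X.Modules} (hF : Coh.IsCoh F) (hG : Coh.IsCoh G) (φ : F ⟶ G)
  (hK : topologicalKrullDim (CohB1.support (kernel φ)) < (n : WithBot ℕ∞))
  (hQ : topologicalKrullDim (CohB1.support (cokernel φ)) < (n : WithBot ℕ∞))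
  {L : X.Modules} (hL : PicF.IsInvertible L) (i : ℕ)

include hA hF hG hK hQ hL

theorem h_diff_pow : ∃ C : ℝ, 0 ≤ C ∧ ∀ m : ℕ,
    |(h k (CohB1.tensorMod F (CohB1.tensorPow L m)) i : ℝ) - h k (CohB1.tensorMod G (CohB1.tensorPow L m)) i| ≤
      C * bdR n m := by
  obtain ⟨M, hM⟩ := exists_isInverseOf hL
  obtain ⟨C, hC, h1⟩ := diff_map (k := k) (isInvertible_ztwist (fun _ : Fin 1 => L) (fun _ => M) (fun _ => hM))
    (fun _ => hL) (mc_ztwist_step _ _ (fun _ => hM)) hA hF hG φ hK hQ i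
  refine ⟨C, hC, fun m => ?_⟩
  have h2 := h1 (fun _ => (m : ℤ))
  have h3 : ∀ F : X.Modules, h k (CohB1.tensorMod F (ztwist X (fun _ : Fin 1 => L) (fun _ => M) (fun _ => (m : ℤ)))) i =
      h k (CohB1.tensorMod F (CohB1.tensorPow L m)) i := by
    intro F
    refine h_congr k ?_ i
    rw [mc_tensor, mc_tensor, mc_pow_eq hM]
  have h4 : nm (fun _ : Fin 1 => (m : ℤ)) = m := by
    have := nm_smul (r := 1) m (fun _ => 1)
    have h5 : nm (fun _ : Fin 1 => (1 : ℤ)) = 1 := by
      unfold nm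
      simp
    rw [h5, mul_one] at this
    simpa using this
  rwa [h3, h3, h4] at h2

theorem hhatF_congr : hhatF k X n i F L = hhatF k X n i G L := by
  obtain ⟨C, hC, h1⟩ := h_diff_pow k hA n hF hG φ hK hQ hL i
  unfold hhatF
  cases n with
  | zero =>
    congr 1
    funext m
    have h2 := h1 m
    rw [bdR_zero, mul_zero, abs_nonpos_iff, sub_eq_zero] at h2
    unfold cohSeq
    change (h k (CohB1.tensorMod F (CohB1.tensorPow L m)) i : ℝ) * _ / _ =
      (h k (CohB1.tensorMod G (CohB1.tensorPow L m)) i : ℝ) * _ / _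
    rw [h2]
  | succ n =>
    refine Limsup.limsup_eq_of_abs_sub_le (n := n + 1) (C := C) (Nat.succ_pos n)
      (Filter.Eventually.of_forall fun m => ?_)
    have h2 := h1 m
    rwa [bdR_succ] at h2

end Tors

end K434.Asymp
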