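import Groth.Agent.S0554
import Mathlib.AlgebraicGeometry.ZariskisMainTheorem
import Mathlib.AlgebraicGeometry.Properties
import Mathlib.AlgebraicGeometry.FunctionField
import Mathlib.AlgebraicGeometry.Noetherian
import Mathlib.Topology.KrullDimension

/-!
# Dimension of a generically quasi-finite dominant morphism

`topologicalKrullDim_le`: if `f : X ⟶ Y` is a dominant morphism locally of finite type between integral
schemes, `Y` locally Noetherian, which is quasi-finite at some point, then `dim X ≤ dim Y`.
-/

set_option autoImplicit false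
universe u
open CategoryTheory AlgebraicGeometry TopologicalSpace

namespace K434.DimQF

theorem isLocalization_congr {S L : Type u} [CommRing S] [CommRing L] [Algebra S L] {M N : Submonoid S}
    (h : M = N) [IsLocalization M L] : IsLocalization N L := by
  subst h
  infer_instance

theorem isAlgebraic_of_quasiFiniteAt_bot (R S : Type u) [CommRing R] [CommRing S] [IsDomain R]
    [IsDomain S] [Algebra R S] [FaithfulSMul R S] [Algebra.QuasiFiniteAt R (⊥ : Ideal S)] :
    Algebra.IsAlgebraic R S := by
  let L := Localization.AtPrime (⊥ : Ideal S)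
  have hQ : Algebra.QuasiFinite R L := ‹Algebra.QuasiFiniteAt R (⊥ : Ideal S)›
  have hfrac : IsFractionRing S L := by
    have h : (⊥ : Ideal S).primeCompl = nonZeroDivisors S := by
      ext x
      simp [Ideal.mem_primeCompl_iff, mem_nonZeroDivisors_iff_ne_zero]
    exact isLocalization_congr h
  let : Field L := IsFractionRing.toField S
  have hinj : Function.Injective (algebraMap R L) := by
    rw [IsScalarTower.algebraMap_eq R S L]
    exact (IsFractionRing.injective S L).comp (FaithfulSMul.algebraMap_injective R S)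
  let : Algebra (FractionRing R) L := (IsFractionRing.lift hinj).toAlgebra
  have : IsScalarTower R (FractionRing R) L := .of_algebraMap_eq fun x =>
    (IsFractionRing.lift_algebraMap hinj x).symm
  have h1 : Algebra.QuasiFinite (FractionRing R) L := Algebra.QuasiFinite.of_restrictScalars R _ L
  have h2 : Module.Finite (FractionRing R) L := Module.Finite.of_quasiFinite
  have h3 : Algebra.IsAlgebraic (FractionRing R) L := inferInstance
  have h4 : Algebra.IsAlgebraic R L := (IsFractionRing.comap_isAlgebraic_iff (K := FractionRing R)).mpr h3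
  refine ⟨fun s => ?_⟩
  exact (isAlgebraic_algebraMap_iff (IsFractionRing.injective S L)).mp (h4.isAlgebraic _)

theorem quasiFiniteAt_congr {R S : Type u} [CommRing R] [CommRing S] [Algebra R S] {P Q : Ideal S}
    [P.IsPrime] [hQ : Q.IsPrime] (h : P = Q) (hP : Algebra.QuasiFiniteAt R P) :
    Algebra.QuasiFiniteAt R Q := by
  subst h
  exact hP

variable {X Y : Scheme.{u}}

theorem stalk_ringKrullDim {U : X.Opens} (hU : IsAffineOpen U) (x : X) (hx : x ∈ U) :
    ringKrullDim (X.presheaf.stalk x) = (hU.primeIdealOf ⟨x, hx⟩).asIdeal.height := by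
  let : Algebra Γ(X, U) (X.presheaf.stalk x) := TopCat.Presheaf.algebra_section_stalk X.presheaf ⟨x, hx⟩
  have : IsLocalization.AtPrime (X.presheaf.stalk x) (hU.primeIdealOf ⟨x, hx⟩).asIdeal :=
    hU.isLocalization_stalk ⟨x, hx⟩
  exact IsLocalization.AtPrime.ringKrullDim_eq_height (hU.primeIdealOf ⟨x, hx⟩).asIdeal _

/-- Points specializing to a quasi-finite point are quasi-finite. -/
theorem quasiFiniteAt_of_specializes (f : X ⟶ Y) {x ξ : X} (h : ξ ⤳ x) (hx : f.QuasiFiniteAt x) :
    f.QuasiFiniteAt ξ := by
  rw [Scheme.Hom.quasiFiniteAt_iff] at hx ⊢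
  rw [← Scheme.SpecMap_stalkSpecializes_fromSpecStalk h, Category.assoc]
  have : IsPreimmersion (Spec.map (X.presheaf.stalkSpecializes h)) := by
    have h1 : IsPreimmersion (Spec.map (X.presheaf.stalkSpecializes h) ≫ X.fromSpecStalk x) := by
      rw [Scheme.SpecMap_stalkSpecializes_fromSpecStalk h]
      infer_instance
    exact IsPreimmersion.of_comp _ (X.fromSpecStalk x)
  infer_instance

theorem appLE_injective [IsIntegral X] [IsIntegral Y] (f : X ⟶ Y)
    (hf : f (genericPoint X) = genericPoint Y) {U : Y.Opens} {V : X.Opens} (hVU : V ≤ f ⁻¹ᵁ U)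
    [Nonempty U] [hV : Nonempty V] : Function.Injective (f.appLE U V hVU).hom := by
  have hξ : genericPoint X ∈ V :=
    ((genericPoint_spec X).mem_open_set_iff V.isOpen).mpr (by simpa using hV)
  rw [injective_iff_map_eq_zero]
  intro a ha
  have h1 : (f.stalkMap (genericPoint X)).hom ((Y.presheaf.germ U (f (genericPoint X)) (hVU hξ)).hom a) = 0 := by
    have h2 : Y.presheaf.germ U (f (genericPoint X)) (hVU hξ) ≫ f.stalkMap (genericPoint X) =
        f.appLE U V hVU ≫ X.presheaf.germ V (genericPoint X) hξ := by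
      exact (Scheme.Hom.germ_stalkMap f U (genericPoint X) (hVU hξ)).trans (by
        rw [Scheme.Hom.appLE, Category.assoc, X.presheaf.germ_res])
    have h3 := ConcreteCategory.congr_hom h2 a
    simp only [ConcreteCategory.comp_apply] at h3
    refine h3.trans ?_
    change (X.presheaf.germ V (genericPoint X) hξ).hom ((f.appLE U V hVU).hom a) = 0
    rw [ha, map_zero]
  have hfield : IsField (Y.presheaf.stalk (f (genericPoint X))) := by
    rw [hf]
    exact Field.toIsField Y.functionField
  have h4 : (Y.presheaf.germ U (f (genericPoint X)) (hVU hξ)).hom a = 0 := by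
    let := hfield.toField
    exact (injective_iff_map_eq_zero (f.stalkMap (genericPoint X)).hom).mp
      (RingHom.injective _) _ h1
  have h5 := germ_injective_of_isIntegral Y (f (genericPoint X)) (hVU hξ)
  exact h5 (h4.trans (map_zero _).symm)

theorem ringKrullDim_stalk_le [IsIntegral X] [IsIntegral Y] [IsLocallyNoetherian Y] (f : X ⟶ Y)
    [LocallyOfFiniteType f] (hf : f (genericPoint X) = genericPoint Y)
    (hq : f.QuasiFiniteAt (genericPoint X)) (x : X) :
    ringKrullDim (X.presheaf.stalk x) ≤ ringKrullDim (Y.presheaf.stalk (f x)) := by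
  obtain ⟨U, hU, hxU, -⟩ := exists_isAffineOpen_mem_and_subset (x := f x) (U := ⊤) trivial
  obtain ⟨V, hV, hxV, hVU⟩ := exists_isAffineOpen_mem_and_subset (x := x) (U := f ⁻¹ᵁ U) hxU
  have : Nonempty U := ⟨⟨_, hxU⟩⟩
  have : Nonempty V := ⟨⟨_, hxV⟩⟩
  have hinj := appLE_injective f hf hVU
  have hft := f.finiteType_appLE hU hV hVU
  have hnoeth : IsNoetherianRing Γ(Y, U) := IsLocallyNoetherian.component_noetherian ⟨U, hU⟩
  have hξ : genericPoint X ∈ V :=
    ((genericPoint_spec X).mem_open_set_iff V.isOpen).mpr ⟨x, trivial, hxV⟩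
  have hqf := hq.quasiFiniteAt hV hU hVU hξ
  algebraize [(f.appLE U V hVU).hom]
  have hbot : (hV.primeIdealOf ⟨genericPoint X, hξ⟩).asIdeal = ⊥ := by
    have := hV.primeIdealOf_genericPoint
    rw [this]
    exact (genericPoint_eq_bot_of_affine Γ(X, V)) ▸ rfl
  have : FaithfulSMul Γ(Y, U) Γ(X, V) := (faithfulSMul_iff_algebraMap_injective _ _).mpr hinj
  have hqf' : Algebra.QuasiFiniteAt Γ(Y, U) (⊥ : Ideal Γ(X, V)) := quasiFiniteAt_congr hbot hqf
  have halg := isAlgebraic_of_quasiFiniteAt_bot Γ(Y, U) Γ(X, V)
  have hlo : (hV.primeIdealOf ⟨x, hxV⟩).asIdeal.LiesOver (hU.primeIdealOf ⟨f x, hxU⟩).asIdeal := by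
    constructor
    have := IsAffineOpen.comap_primeIdealOf_appLE U hU V hV hVU hxV
    exact (congrArg PrimeSpectrum.asIdeal this).symm
  have key := Groth.Agent.S0554.result Γ(Y, U) Γ(X, V) (hU.primeIdealOf ⟨f x, hxU⟩).asIdeal
    (hV.primeIdealOf ⟨x, hxV⟩).asIdeal
  rw [trdeg_eq_zero (R := Γ(Y, U)) (A := Γ(X, V)), add_zero] at key
  rw [stalk_ringKrullDim hV x hxV, stalk_ringKrullDim hU (f x) hxU]
  have key' := (le_add_right le_rfl).trans key
  exact_mod_cast key'

theorem topologicalKrullDim_eq_iSup_stalk (X : Scheme.{u}) :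
    topologicalKrullDim X = ⨆ x : X, ringKrullDim (X.presheaf.stalk x) := by
  have h1 : topologicalKrullDim X = Order.krullDim X :=
    Order.krullDim_eq_of_orderIso (irreducibleSetEquivPoints (α := X))
  rw [h1, Order.krullDim_eq_iSup_coheight]
  exact iSup_congr fun x => (ringKrullDim_stalk_eq_coheight x).symm

theorem topologicalKrullDim_le [IsIntegral X] [IsIntegral Y] [IsLocallyNoetherian Y] (f : X ⟶ Y)
    [LocallyOfFiniteType f] (hf : f (genericPoint X) = genericPoint Y) {x : X}
    (hq : f.QuasiFiniteAt x) : topologicalKrullDim X ≤ topologicalKrullDim Y := by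
  rw [topologicalKrullDim_eq_iSup_stalk X, topologicalKrullDim_eq_iSup_stalk Y]
  refine iSup_le fun x' => ?_
  exact (ringKrullDim_stalk_le f hf (quasiFiniteAt_of_specializes f (genericPoint_specializes x) hq)
    x').trans (le_iSup (fun y : Y => ringKrullDim (Y.presheaf.stalk y)) (f x'))

end K434.DimQF
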