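import Groth.Agent.Pic13.H11.Core
import Groth.Agent.Pic13.H951.PresentX
import Groth.Agent.S1647
import Groth.Agent.S10965
import Groth.Agent.VarietyB.GGStalk
import Groth.Agent.S2329
import Groth.Agent.Ega1.GlobGenPt

/-!
# A very ample module all of whose numerically trivial twists are very ample
-/

set_option autoImplicit false
universe u
open CategoryTheory CategoryTheory.Limits AlgebraicGeometry Opposite TopologicalSpace

namespace K434.Vamp

open Groth.Agent Groth.Agent.Ega2 Groth.Agent.Fdesc.LocGen Groth.Agent.Fga.PicMon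
open Groth.Agent.Pic13.H11 Groth.Agent.Pic13.H11.Cls Groth.Agent.Pic13.H11.NumU Groth.Agent.Pic13.H11.Transf
  Groth.Agent.Pic13.H11.Emb

section GenBy

variable {X : Scheme.{u}} {L : X.Modules}

/-- the germ of a section at a point of its generating locus spans the stalk. -/
theorem span_germ_eq_top (s : Coh.structureModule X ⟶ L) {y : X} (hy : y ∈ CohB1.genLocus L s) :
    Submodule.span (X.presheaf.stalk y) {(L.presheaf.germ ⊤ y trivial).hom (sec s ⊤)} = ⊤ := by
  rw [eq_top_iff]
  rintro t -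
  obtain ⟨W, hyW, f, rfl⟩ := TopCat.Presheaf.exists_germ_eq L.presheaf t
  have hg : IsGen (sec s (W ⊓ CohB1.genLocus L s)) := by
    have := (isGen_sec_genLocus s).res (inf_le_right : W ⊓ CohB1.genLocus L s ≤ _)
    rwa [res_sec] at this
  obtain ⟨a, ha⟩ := hg.exists_eq (res L inf_le_left f)
  have h1 : L.presheaf.germ W y hyW f = L.presheaf.germ (W ⊓ CohB1.genLocus L s) y ⟨hyW, hy⟩
      (res L inf_le_left f) := (TopCat.Presheaf.germ_res_apply L.presheaf (homOfLE inf_le_left) y ⟨hyW, hy⟩ f).symm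
  have h2 : L.presheaf.germ ⊤ y trivial (sec s ⊤) = L.presheaf.germ (W ⊓ CohB1.genLocus L s) y ⟨hyW, hy⟩
      (sec s (W ⊓ CohB1.genLocus L s)) := by
    rw [← res_sec s (le_top : W ⊓ CohB1.genLocus L s ≤ ⊤)]
    exact (TopCat.Presheaf.germ_res_apply L.presheaf (homOfLE (le_top : W ⊓ CohB1.genLocus L s ≤ ⊤)) y
      ⟨hyW, hy⟩ (sec s ⊤)).symm
  rw [h1, ha, CycB.StalkExact.germ_smul]
  refine Submodule.smul_mem _ _ (Submodule.subset_span ?_)
  rw [Set.mem_singleton_iff]
  exact h2.symm

/-- a globally generated invertible module on a quasi-compact scheme is generated by finitely many sections. -/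
theorem exists_generatedBy [CompactSpace X] (hL : PicF.IsInvertible L) (hgg : Curv2.IsGloballyGenerated L) :
    ∃ (m : ℕ) (s : Fin m → ProjUP.Γm L), ProjUP.GeneratedBy L s := by
  choose s hs using fun x : X => Ega1.GlobGenPt.exists_mem_genLocus hL hgg x
  obtain ⟨t, ht⟩ := isCompact_univ.elim_finite_subcover
    (fun x : X => ((CohB1.genLocus L (s x) : X.Opens) : Set X)) (fun x => (CohB1.genLocus L (s x)).isOpen)
    (fun x _ => Set.mem_iUnion.2 ⟨x, hs x⟩)
  refine ⟨t.card, fun j => sec (s (t.equivFin.symm j)) ⊤, fun y => ?_⟩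
  obtain ⟨x, hx⟩ := Set.mem_iUnion.1 (ht (Set.mem_univ y))
  obtain ⟨hxt, hx⟩ := Set.mem_iUnion.1 hx
  rw [eq_top_iff, ← span_germ_eq_top (s x) hx]
  refine Submodule.span_mono ?_
  rintro _ rfl
  refine ⟨t.equivFin ⟨x, hxt⟩, ?_⟩
  simp

end GenBy

theorem isRelVeryAmplePn_of_iso {X S : Scheme.{u}} {q : X ⟶ S} {L L' : X.Modules} (e : L ≅ L')
    (h : RelAmple.IsRelVeryAmplePn q L) : RelAmple.IsRelVeryAmplePn q L' := by
  obtain ⟨n, i, hi, his, ⟨e'⟩⟩ := h
  exact ⟨n, i, hi, his, ⟨e.symm ≪≫ e'⟩⟩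

variable (k : Type u) [Field k] {X : Scheme.{u}} [X.Over (Spec (CommRingCat.of k))]
  [IsProper (X ↘ Spec (CommRingCat.of k))]

/-- Uniform global generation of numerically trivial twists. -/
theorem exists_globGen {H : X.Modules} (hH : CohB1.IsAmple H) :
    ∃ (e m : ℕ), 1 ≤ e ∧ ∀ m' : ℕ, m ≤ m' → ∀ N : X.Modules, PicF.IsInvertible N → Pic13.IsNumEquivZero k X N →
      Curv2.IsGloballyGenerated (CohB1.tensorMod N (CohB1.tensorPow H (e * m'))) := by
  have hNoeth : IsNoetherian X := VarietyA.TwistExist.isNoetherian k X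
  obtain ⟨n, e, i, he, hi, his, hie⟩ := exists_embedding k X hH
  have hi' : i ≫ (CohB1.ProjSpace n k ↘ Spec (CommRingCat.of k)) = X ↘ Spec (CommRingCat.of k) := his
  have hO : Coh.IsCoh (Coh.structureModule X) := Fdesc.StructMod.isCoh_structureModule X
  obtain ⟨p₀, hp₀⟩ := (Core.good (k := k) hH _ hO).van
  have hval : ∀ t : ℕ, (((unit hH.1 ^ e) ^ t : (MC X)ˣ) : MC X) = mc (CohB1.tensorPow H (e * t)) := by
    intro t
    rw [← pow_mul, Units.val_pow_eq_pow_val, unit_val, mc_tensorPow]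
  refine ⟨e, p₀ + n, he, fun m hm N hN hnum => ?_⟩
  have hNc : Coh.IsCoh N := Fga.HodgeSec.isCoh_of_isInvertible hN
  have hG : Coh.IsCoh ((Scheme.Modules.pushforward i).obj N) := Pic13.H951.PresentX.isCoh_push k i hNc
  have hreg : Curv2.IsMRegular k n ((Scheme.Modules.pushforward i).obj N) (m : ℤ) := by
    intro q hq hqn
    have h1 : V q (mc (CohB1.tensorMod ((Scheme.Modules.pushforward i).obj N)
        (Twist.twistProjSpace n k ((m : ℤ) - q)))) := by
      have h2 : ((m : ℤ) - q) = ((m - q : ℕ) : ℤ) := by omega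
      rw [smul_twist, h2, zpow_natCast]
      change V q (twistU k n 1 ^ (m - q) • pushC i (mc N))
      rw [smul_pushC, map_pow, hie]
      refine (V_push i k hi' (Co.smul (c := mc N) hNc _) q).2 ?_
      rw [smul_def, hval, ← mc_tensor]
      have h3 := hp₀ N hN hnum (e * (m - q)) (by nlinarith [Nat.sub_le m q, Nat.le_sub_of_add_le (show p₀ + q ≤ m by omega)]) q hq
      have h4 : mc (CohB1.tensorMod (CohB1.tensorMod (Coh.structureModule X) N) (CohB1.tensorPow H (e * (m - q)))) =
          mc (CohB1.tensorMod (CohB1.tensorPow H (e * (m - q))) N) := by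
        rw [mc_tensor, mc_tensor, mc_tensor, mc_one, one_mul, mul_comm]
      rw [← h4]
      exact h3
    exact h1
  have h3 := S1647.result k n _ hG m hreg
  have h4 := VarietyB.GGStalk.isGloballyGenerated_pullback i _ h3
  have e1 : (Scheme.Modules.pullback i).obj (CohB1.tensorMod ((Scheme.Modules.pushforward i).obj N)
      (Twist.twistProjSpace n k (m : ℤ))) ≅ _root_.Pic13.twistOn k i N (m : ℤ) :=
    (Scheme.Modules.pullback i).mapIso (Pic13.H951.PresentX.pushTwist k i N (m : ℤ)).symm ≪≫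
      Pic13.H951.PresentX.counitIso k i _
  have h5 := S2329.isGloballyGenerated_of_iso e1 h4
  have h6 : mc (_root_.Pic13.twistOn k i N (m : ℤ)) = mc (CohB1.tensorMod N (CohB1.tensorPow H (e * m))) := by
    have h7 : mc ((Scheme.Modules.pullback i).obj (Twist.twistProjSpace n k (m : ℤ))) =
        mc (CohB1.tensorPow H (e * m)) := by
      rw [← hval, ← hie, ← map_pow, ← zpow_natCast, ← twistU_eq, twistU, pullU_unit_val]
    unfold _root_.Pic13.twistOn
    rw [mc_tensor, mc_tensor]
    exact congrArg _ h7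
  exact S2329.isGloballyGenerated_of_iso ((mc_eq_iff _ _).1 h6).some h5

/-- **Main theorem.** -/
theorem exists_veryAmple {H : X.Modules} (hH : CohB1.IsAmple H) :
    ∃ A : X.Modules, PicF.IsInvertible A ∧ RelAmple.IsRelVeryAmplePn (X ↘ Spec (CommRingCat.of k)) A ∧
      ∀ N : X.Modules, PicF.IsInvertible N → Pic13.IsNumEquivZero k X N →
        RelAmple.IsRelVeryAmplePn (X ↘ Spec (CommRingCat.of k)) (CohB1.tensorMod A N) := by
  have hNoeth : IsNoetherian X := VarietyA.TwistExist.isNoetherian k X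
  obtain ⟨e, m, he, hgg⟩ := exists_globGen k hH
  obtain ⟨n₀, h0⟩ := Ega2.AmpleVery.exists_forall_isRelVeryAmplePn (X ↘ Spec (CommRingCat.of k)) hH
  refine ⟨CohB1.tensorPow H (n₀ + e * m), isInvertible_tensorPow hH.1 _, h0 _ (by omega), fun N hN hnum => ?_⟩
  have hL' : PicF.IsInvertible (CohB1.tensorMod N (CohB1.tensorPow H (e * m))) :=
    isInvertible_tensorMod hN (isInvertible_tensorPow hH.1 _)
  obtain ⟨r, s, hs⟩ := exists_generatedBy hL' (hgg m le_rfl N hN hnum)
  have h1 := S10965.result (X ↘ Spec (CommRingCat.of k)) (CohB1.tensorPow H n₀) _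
    (isInvertible_tensorPow hH.1 _) (h0 n₀ le_rfl) hL' s hs
  refine isRelVeryAmplePn_of_iso ((mc_eq_iff _ _).1 ?_).some h1
  rw [mc_tensor, mc_tensor, mc_tensor, mc_tensorPow, mc_tensorPow, mc_tensorPow, pow_add]
  simp only [mul_assoc, mul_comm]

end K434.Vamp
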