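import Groth.Agent.Variety.K434.Asymp
import Groth.Agent.VarietyB.GGStalk
import Groth.Agent.CycB.CohStalk
import Groth.Agent.CycB.PushStalk
import Groth.Agent.PerfA.CohSerre

/-!
# Coherent modules of generic rank `r` versus `r` copies of the structure sheaf

* `h_free`: `h^q(O^r ⊗ N) = r h^q(N)`.
* `finrank_stalk_free`: on an integral scheme the generic stalk of `O^r` has dimension `r`.
* `exists_free_map`: a globally generated coherent module of generic rank `r` receives a map from `O^r` which is an
  isomorphism at the generic point.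
* `hhatF_eq_rank_mul`: `ĥ^i(F; L) = r ĥ^i(L)`.
-/

set_option autoImplicit false
universe u
open CategoryTheory CategoryTheory.Limits AlgebraicGeometry Opposite TopologicalSpace

namespace K434.Rank

open Groth.Agent Groth.Agent.Ega2 Groth.Agent.Fdesc.LocGen Groth.Agent.CohqB.SerTw
open Groth.Agent.Fga.PicMon Groth.Agent.Pic13.H946.Core Groth.Agent.CohqB.DevSupport
open Groth.Agent.VarietyA.EulerLES Groth.Agent.VarietyB.GGStalk Groth.Agent.CycB.StalkExact
open K434.HBound K434.DevIrred K434.Steps K434.Growth K434.ZTwist K434.Asymp W4c5asymptcohfn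

variable {X : Scheme.{u}}

section Free

variable (r : ℕ)

/-- the `j`-th inclusion. -/
noncomputable def inc0 (j : Fin r) : Coh.structureModule X ⟶ FlatMod.freeMod X r :=
  Sigma.ι (fun _ : Fin r => Coh.structureModule X) j

/-- the `j`-th projection. -/
noncomputable def prj0 (j : Fin r) : FlatMod.freeMod X r ⟶ Coh.structureModule X :=
  Sigma.desc (fun i => if i = j then 𝟙 (Coh.structureModule X) else 0)

theorem inc0_prj0 (i j : Fin r) : inc0 (X := X) r i ≫ prj0 r j = if i = j then 𝟙 _ else 0 := by
  unfold inc0 prj0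
  rw [colimit.ι_desc]
  rfl

theorem sum_prj0_inc0 : ∑ j, prj0 (X := X) r j ≫ inc0 r j = 𝟙 _ := by
  refine Sigma.hom_ext _ _ fun i => ?_
  rw [Preadditive.comp_sum, Category.comp_id, Finset.sum_eq_single i]
  · have h1 : inc0 (X := X) r i ≫ prj0 r i ≫ inc0 r i = inc0 r i := by
      rw [← Category.assoc, inc0_prj0, if_pos rfl, Category.id_comp]
    exact h1
  · intro b _ hb
    have h1 : inc0 (X := X) r i ≫ prj0 r b ≫ inc0 r b = 0 := by
      rw [← Category.assoc, inc0_prj0, if_neg hb.symm, zero_comp]
    exact h1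
  · intro h
    exact absurd (Finset.mem_univ _) h

/-- maps out of the free module. -/
noncomputable def desc0 {M : X.Modules} (s : Fin r → (Coh.structureModule X ⟶ M)) : FlatMod.freeMod X r ⟶ M :=
  Sigma.desc s

@[reassoc]
theorem inc0_desc0 {M : X.Modules} (s : Fin r → (Coh.structureModule X ⟶ M)) (j : Fin r) :
    inc0 r j ≫ desc0 r s = s j := colimit.ι_desc _ _

variable (N : X.Modules)

/-- the left unit isomorphism. -/
noncomputable def lu : (tw N).obj (Coh.structureModule X) ≅ N := Tens.lunit N

/-- the `j`-th inclusion `N ⟶ O^r ⊗ N`. -/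
noncomputable def inc (j : Fin r) : N ⟶ (tw N).obj (FlatMod.freeMod X r) :=
  (lu N).inv ≫ (tw N).map (inc0 r j)

/-- the `j`-th projection `O^r ⊗ N ⟶ N`. -/
noncomputable def prj (j : Fin r) : (tw N).obj (FlatMod.freeMod X r) ⟶ N :=
  (tw N).map (prj0 r j) ≫ (lu N).hom

theorem inc_prj (i j : Fin r) : inc r N i ≫ prj r N j = if i = j then 𝟙 N else 0 := by
  unfold inc prj
  rw [Category.assoc, ← Functor.map_comp_assoc, inc0_prj0]
  split_ifs with h
  · rw [CategoryTheory.Functor.map_id, Category.id_comp, Iso.inv_hom_id]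
  · rw [Functor.map_zero, zero_comp, comp_zero]

theorem sum_prj_inc : ∑ j, prj r N j ≫ inc r N j = 𝟙 ((tw N).obj (FlatMod.freeMod X r)) := by
  have h2 : ∀ j, prj r N j ≫ inc r N j = (tw N).map (prj0 r j ≫ inc0 r j) := by
    intro j
    unfold inc prj
    rw [Category.assoc, Functor.map_comp, Iso.hom_inv_id_assoc]
  simp only [h2]
  rw [← Functor.map_sum, sum_prj0_inc0, CategoryTheory.Functor.map_id]

variable (k : Type u) [Field k] [X.Over (Spec (CommRingCat.of k))]

theorem mapA_sum {M N : X.Modules} {ι : Type*} (s : Finset ι) (f : ι → (M ⟶ N)) (n : ℕ) :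
    mapA k (∑ j ∈ s, f j) n = ∑ j ∈ s, mapA k (f j) n := by
  classical
  induction s using Finset.induction_on with
  | empty =>
    rw [Finset.sum_empty, Finset.sum_empty]
    ext x
    change mapΓ (0 : M ⟶ N) n x = 0
    rw [mapΓ_zero]
    rfl
  | insert a s ha ih =>
    rw [Finset.sum_insert ha, Finset.sum_insert ha, ← ih]
    ext x
    change mapΓ (f a + ∑ j ∈ s, f j) n x = mapΓ (f a) n x + mapΓ (∑ j ∈ s, f j) n x
    rw [mapΓ_add]
    rfl

variable [IsProper (X ↘ Spec (CommRingCat.of k))]

/-- The cohomology of `O^r ⊗ N`. -/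
theorem h_free (hN : Coh.IsCoh N) (q : ℕ) :
    h k (CohB1.tensorMod (FlatMod.freeMod X r) N) q = r * h k N q := by
  have hfin := Fga.HodgeSec.finite_HH' k hN q
  let Φ : (Fin r → Coh.HH X N q) →ₗ[k] Coh.HH X ((tw N).obj (FlatMod.freeMod X r)) q :=
    ∑ j, (mapA k (inc r N j) q).comp (LinearMap.proj j)
  let Ψ : Coh.HH X ((tw N).obj (FlatMod.freeMod X r)) q →ₗ[k] (Fin r → Coh.HH X N q) :=
    LinearMap.pi fun j => mapA k (prj r N j) q
  have h1 : Φ.comp Ψ = LinearMap.id := by
    have h2 : Φ.comp Ψ = ∑ j, mapA k (prj r N j ≫ inc r N j) q := by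
      ext x
      simp only [Φ, Ψ, LinearMap.comp_apply, LinearMap.sum_apply, LinearMap.proj_apply, LinearMap.pi_apply,
        mapA_comp]
    rw [h2, ← mapA_sum, sum_prj_inc, mapA_id]
  have h3 : Ψ.comp Φ = LinearMap.id := by
    refine LinearMap.pi_ext' fun i => ?_
    ext x j
    simp only [Φ, Ψ, LinearMap.comp_apply, LinearMap.sum_apply, LinearMap.proj_apply, LinearMap.pi_apply,
      LinearMap.single_apply, LinearMap.id_apply, map_sum]
    rw [Finset.sum_eq_single i]
    · rw [Pi.single_eq_same]
      have h4 : mapA k (prj r N j) q (mapA k (inc r N i) q x) = mapA k (inc r N i ≫ prj r N j) q x := by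
        rw [mapA_comp]; rfl
      rw [h4, inc_prj]
      split_ifs with hij
      · subst hij
        rw [mapA_id, Pi.single_eq_same]; rfl
      · rw [Pi.single_eq_of_ne (Ne.symm hij)]
        change mapΓ (0 : N ⟶ N) q x = 0
        rw [mapΓ_zero]; rfl
    · intro b _ hb
      rw [Pi.single_eq_of_ne hb, map_zero, map_zero]
    · intro hi
      exact absurd (Finset.mem_univ _) hi
  have e : (Fin r → Coh.HH X N q) ≃ₗ[k] Coh.HH X ((tw N).obj (FlatMod.freeMod X r)) q :=
    LinearEquiv.ofLinearMap Φ Ψ h1 h3
  change Module.finrank k (Coh.HH X ((tw N).obj (FlatMod.freeMod X r)) q) = r * Module.finrank k (Coh.HH X N q)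
  rw [← e.finrank_eq, Module.finrank_pi_fintype]
  simp

end Free

section Stalk

theorem stalkLin_zero (M N : X.Modules) (x : X) : stalkLin (0 : M ⟶ N) x = 0 := by
  ext m
  change ((stalkFun x).map (0 : M ⟶ N)).hom m = 0
  rw [(stalkFun x).map_zero]
  rfl

theorem stalkLin_add {M N : X.Modules} (f g : M ⟶ N) (x : X) :
    stalkLin (f + g) x = stalkLin f x + stalkLin g x := by
  ext m
  change ((stalkFun x).map (f + g)).hom m = ((stalkFun x).map f).hom m + ((stalkFun x).map g).hom m
  rw [(stalkFun x).map_add]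
  rfl

theorem stalkLin_sum {M N : X.Modules} {ι : Type*} (s : Finset ι) (f : ι → (M ⟶ N)) (x : X) :
    stalkLin (∑ j ∈ s, f j) x = ∑ j ∈ s, stalkLin (f j) x := by
  classical
  induction s using Finset.induction_on with
  | empty => rw [Finset.sum_empty, Finset.sum_empty, stalkLin_zero]
  | insert a s ha ih => rw [Finset.sum_insert ha, Finset.sum_insert ha, stalkLin_add, ih]

/-- the stalk of `O^r`. -/
noncomputable def stalkFree (r : ℕ) (x : X) :
    (FlatMod.freeMod X r).presheaf.stalk x ≃ₗ[X.presheaf.stalk x]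
      (Fin r → (Coh.structureModule X).presheaf.stalk x) :=
  LinearEquiv.ofLinearMap (LinearMap.pi fun j => stalkLin (prj0 r j) x)
    (∑ j, (stalkLin (inc0 r j) x).comp (LinearMap.proj j))
    (by
      refine LinearMap.pi_ext' fun i => ?_
      ext m j
      simp only [LinearMap.comp_apply, LinearMap.sum_apply, LinearMap.proj_apply, LinearMap.pi_apply,
        LinearMap.single_apply, LinearMap.id_apply, map_sum]
      rw [Finset.sum_eq_single i]
      · rw [Pi.single_eq_same]
        have h4 : stalkLin (prj0 r j) x (stalkLin (inc0 r i) x m) = stalkLin (inc0 r i ≫ prj0 r j) x m := by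
          rw [stalkLin_comp]; rfl
        rw [h4, inc0_prj0]
        split_ifs with hij
        · subst hij
          rw [stalkLin_id, Pi.single_eq_same]; rfl
        · rw [Pi.single_eq_of_ne (Ne.symm hij), stalkLin_zero]; rfl
      · intro b _ hb
        rw [Pi.single_eq_of_ne hb, map_zero, map_zero]
      · intro hi
        exact absurd (Finset.mem_univ _) hi)
    (by
      have h2 : (∑ j, (stalkLin (inc0 (X := X) r j) x).comp (LinearMap.proj j)) ∘ₗ
          (LinearMap.pi fun j => stalkLin (prj0 r j) x) = ∑ j, stalkLin (prj0 r j ≫ inc0 r j) x := by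
        ext m
        simp only [LinearMap.comp_apply, LinearMap.sum_apply, LinearMap.proj_apply, LinearMap.pi_apply,
          stalkLin_comp]
      rw [h2, ← stalkLin_sum, sum_prj0_inc0, stalkLin_id])

theorem mono_stalkF_of_injective {M N : X.Modules} (φ : M ⟶ N) (x : X)
    (h : Function.Injective (stalkLin φ x)) : Mono ((stalkF X x).map φ) :=
  (AddCommGrpCat.mono_iff_injective _).2 h

theorem epi_stalkF_of_surjective {M N : X.Modules} (φ : M ⟶ N) (x : X)
    (h : Function.Surjective (stalkLin φ x)) : Epi ((stalkF X x).map φ) :=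
  (AddCommGrpCat.epi_iff_surjective _).2 h

/-- the kernel of a map that is injective at `x` has zero stalk at `x`. -/
theorem not_mem_support_kernel {M N : X.Modules} (φ : M ⟶ N) (x : X)
    (h : Mono ((stalkF X x).map φ)) : x ∉ CohB1.support (kernel φ) := by
  rw [not_mem_support_iff_isZero]
  have e : (stalkF X x).obj (kernel φ) ≅ kernel ((stalkF X x).map φ) :=
    PreservesKernel.iso (stalkF X x) φ
  exact IsZero.of_iso (isZero_kernel_of_mono _) e

/-- the cokernel of a map that is surjective at `x` has zero stalk at `x`. -/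
theorem not_mem_support_cokernel {M N : X.Modules} (φ : M ⟶ N) (x : X)
    (h : Epi ((stalkF X x).map φ)) : x ∉ CohB1.support (cokernel φ) := by
  rw [not_mem_support_iff_isZero]
  have e : (stalkF X x).obj (cokernel φ) ≅ cokernel ((stalkF X x).map φ) :=
    PreservesCokernel.iso (stalkF X x) φ
  exact IsZero.of_iso (isZero_cokernel_of_epi _) e

variable [IsIntegral X]

/-- The function field as the stalk at the generic point. -/
noncomputable local instance : Field (X.presheaf.stalk (genericPoint X)) :=
  inferInstanceAs (Field X.functionField)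

theorem finrank_stalk_free (r : ℕ) :
    Module.finrank (X.presheaf.stalk (genericPoint X)) ((FlatMod.freeMod X r).presheaf.stalk (genericPoint X)) = r := by
  rw [(stalkFree r (genericPoint X)).finrank_eq]
  have e : (Fin r → (Coh.structureModule X).presheaf.stalk (genericPoint X)) ≃ₗ[X.presheaf.stalk (genericPoint X)]
      (Fin r → X.presheaf.stalk (genericPoint X)) :=
    LinearEquiv.piCongrRight fun _ => (CycB.PushStalk.unitStalk X (genericPoint X)).symm
  rw [e.finrank_eq]
  simp

/-- linear algebra: a basis among a spanning set. -/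
theorem exists_basis_of_span {K V : Type*} [Field K] [AddCommGroup V] [Module K V] [Module.Finite K V]
    (S : Set V) (hS : Submodule.span K S = ⊤) :
    ∃ b : Fin (Module.finrank K V) → V, (∀ j, b j ∈ S) ∧ Submodule.span K (Set.range b) = ⊤ := by
  obtain ⟨T, hTS, hspan, hli⟩ := exists_linearIndependent K S
  have hspan' : ⊤ ≤ Submodule.span K (Set.range ((↑) : T → V)) := by
    rw [Subtype.range_coe, hspan, hS]
  let B := Module.Basis.mk hli hspan'
  have : Fintype T := FiniteDimensional.fintypeBasisIndex B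
  have hcard : Fintype.card T = Module.finrank K V := (Module.finrank_eq_card_basis B).symm
  let e : Fin (Module.finrank K V) ≃ T := (Fintype.equivFinOfCardEq hcard).symm
  refine ⟨fun j => (e j : V), fun j => hTS (e j).2, ?_⟩
  have h1 : Set.range (fun j => ((e j : T) : V)) = Set.range ((↑) : T → V) := by
    rw [show (fun j => ((e j : T) : V)) = ((↑) : T → V) ∘ e from rfl, Set.range_comp, e.range_eq_univ, Set.image_univ]
  rw [h1]
  exact eq_top_iff.2 hspan'

/-- A globally generated coherent module of generic rank `r` receives a generic isomorphism from `O^r`. -/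
theorem exists_free_map {G : X.Modules} (hG : Coh.IsCoh G) (hgg : Curv2.IsGloballyGenerated G) (r : ℕ)
    (hr : Module.finrank (X.presheaf.stalk (genericPoint X)) (G.presheaf.stalk (genericPoint X)) = r)
    [IsLocallyNoetherian X] :
    ∃ φ : FlatMod.freeMod X r ⟶ G, genericPoint X ∉ CohB1.support (kernel φ) ∧
      genericPoint X ∉ CohB1.support (cokernel φ) := by
  subst hr
  have hfin : Module.Finite (X.presheaf.stalk (genericPoint X)) (G.presheaf.stalk (genericPoint X)) :=
    CycB.CohStalk.finite_stalk G hG (genericPoint X)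
  obtain ⟨b, hb, hspan⟩ := exists_basis_of_span _ ((isGloballyGenerated_iff_span G).1 hgg (genericPoint X))
  choose t ht using hb
  let φ := desc0 (X := X) _ fun j => homOf (t j)
  have hφ : ∀ j, stalkLin φ (genericPoint X) (stalkLin (inc0 _ j) (genericPoint X)
      ((Coh.structureModule X).presheaf.germ ⊤ (genericPoint X) trivial (one ⊤))) = b j := by
    intro j
    have h1 : stalkLin φ (genericPoint X) (stalkLin (inc0 _ j) (genericPoint X)
      ((Coh.structureModule X).presheaf.germ ⊤ (genericPoint X) trivial (one ⊤))) =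
      stalkLin (inc0 _ j ≫ φ) (genericPoint X)
        ((Coh.structureModule X).presheaf.germ ⊤ (genericPoint X) trivial (one ⊤)) := by
      rw [stalkLin_comp]; rfl
    rw [h1, inc0_desc0, stalkLin_germ]
    change G.presheaf.germ ⊤ (genericPoint X) trivial (sec (homOf (t j)) ⊤) = b j
    rw [sec_homOf, res_refl]
    exact ht j
  have hsurj : Function.Surjective (stalkLin φ (genericPoint X)) := by
    rw [← LinearMap.range_eq_top, eq_top_iff, ← hspan, Submodule.span_le]
    rintro _ ⟨j, rfl⟩
    exact ⟨_, hφ j⟩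
  have hinj : Function.Injective (stalkLin φ (genericPoint X)) := by
    have hfin' : Module.Finite (X.presheaf.stalk (genericPoint X))
        ((FlatMod.freeMod X (Module.finrank (X.presheaf.stalk (genericPoint X))
          (G.presheaf.stalk (genericPoint X)))).presheaf.stalk (genericPoint X)) := by
      have hO : Module.Finite (X.presheaf.stalk (genericPoint X))
          ((Coh.structureModule X).presheaf.stalk (genericPoint X)) :=
        Module.Finite.equiv (CycB.PushStalk.unitStalk X (genericPoint X))
      exact Module.Finite.equiv (stalkFree _ (genericPoint X)).symm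
    exact (LinearMap.injective_iff_surjective_of_finrank_eq_finrank (finrank_stalk_free _)).2 hsurj
  exact ⟨φ, not_mem_support_kernel φ _ (mono_stalkF_of_injective φ _ hinj),
    not_mem_support_cokernel φ _ (epi_stalkF_of_surjective φ _ hsurj)⟩

end Stalk

section Main

theorem bijective_stalkLin {M N : X.Modules} (φ : M ⟶ N) (x : X) (h1 : x ∉ CohB1.support (kernel φ))
    (h2 : x ∉ CohB1.support (cokernel φ)) : Function.Bijective (stalkLin φ x) := by
  rw [not_mem_support_iff] at h1 h2
  constructor
  · have hex := stalkLin_exact (ShortComplex.mk (kernel.ι φ) φ (kernel.condition φ))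
      (ShortComplex.exact_of_f_is_kernel _ (kernelIsKernel φ)) x
    rw [injective_iff_map_eq_zero]
    intro m hm
    obtain ⟨y, hy⟩ := (hex m).1 hm
    rw [← hy, Subsingleton.elim (α := (kernel φ).presheaf.stalk x) y 0]
    exact map_zero _
  · have hex := stalkLin_exact (ShortComplex.mk φ (cokernel.π φ) (cokernel.condition φ))
      (ShortComplex.exact_of_g_is_cokernel _ (cokernelIsCokernel φ)) x
    intro m
    exact (hex m).1 (Subsingleton.elim (α := (cokernel φ).presheaf.stalk x) _ _)

variable [IsIntegral X]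

theorem dim_support_lt_of_generic {n : ℕ} (hn : topologicalKrullDim X = n) {K : X.Modules}
    (hK : Coh.IsCoh K) (h : genericPoint X ∉ CohB1.support K) :
    topologicalKrullDim (CohB1.support K) < (n : WithBot ℕ∞) :=
  dim_support_lt hK (A := Set.univ) (genericPoint_closure (α := X)).symm (Set.subset_univ _) h
    (lt_of_le_of_lt Topology.IsInducing.subtypeVal.topologicalKrullDim_le
      (by rw [hn]; exact_mod_cast Nat.lt_succ_self n))

variable (k : Type u) [Field k] [X.Over (Spec (CommRingCat.of k))] [IsProper (X ↘ Spec (CommRingCat.of k))]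

theorem h_rank_diff {A : X.Modules} (hA : CohB1.IsAmple A) (n : ℕ) (hn : topologicalKrullDim X = n)
    {F : X.Modules} (hF : Coh.IsCoh F) (r : ℕ)
    (hr : Module.finrank (X.presheaf.stalk (genericPoint X)) (F.presheaf.stalk (genericPoint X)) = r)
    {L : X.Modules} (hL : PicF.IsInvertible L) (i : ℕ) :
    ∃ C : ℝ, 0 ≤ C ∧ ∀ m : ℕ, |(h k (CohB1.tensorMod F (CohB1.tensorPow L m)) i : ℝ) -
      r * h k (CohB1.tensorPow L m) i| ≤ C * bdR n m := by
  have hNoeth : IsNoetherian X := VarietyA.TwistExist.isNoetherian k X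
  have hsep : X.IsSeparated := Fga.HypSec.isSeparated k X
  obtain ⟨n₁, h₁⟩ := S2325.result X A hA F hF
  obtain ⟨n₂, -, h₂⟩ := S2329.result X A (Coh.structureModule X) hA isInvertible_structureModule
  set B := CohB1.tensorPow A (max n₁ n₂) with hBdef
  have hB : PicF.IsInvertible B := isInvertible_tensorPow hA.1 _
  obtain ⟨s, hs⟩ := Ega1.GlobGenPt.exists_mem_genLocus hB
    (S2329.isGloballyGenerated_of_iso (Tens.runit _) (h₂ _ (le_max_right _ _)).2) (genericPoint X)
  have hgg : Curv2.IsGloballyGenerated (CohB1.tensorMod F B) := h₁ _ (le_max_left _ _)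
  have hG : Coh.IsCoh (CohB1.tensorMod F B) := isCoh_tensorMod hF hB
  obtain ⟨ψ, a1, a2, -, -⟩ := exists_mul hB s hs F
  have hrG : Module.finrank (X.presheaf.stalk (genericPoint X))
      ((CohB1.tensorMod F B).presheaf.stalk (genericPoint X)) = r := by
    rw [← hr]
    exact (LinearEquiv.ofBijective (stalkLin ψ (genericPoint X)) (bijective_stalkLin ψ _ a1 a2)).finrank_eq.symm
  obtain ⟨φ, b1, b2⟩ := exists_free_map hG hgg r hrG
  have hfree : Coh.IsCoh (FlatMod.freeMod X r) := PerfA.CohSerre.isCoh_freeMod r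
  obtain ⟨hK1, hQ1, -, -⟩ := image_aux k ψ hF hG
  obtain ⟨hK2, hQ2, -, -⟩ := image_aux k φ hfree hG
  obtain ⟨C₁, hC₁, e₁⟩ := h_diff_pow k hA n hF hG ψ (dim_support_lt_of_generic hn hK1 a1)
    (dim_support_lt_of_generic hn hQ1 a2) hL i
  obtain ⟨C₂, hC₂, e₂⟩ := h_diff_pow k hA n hfree hG φ (dim_support_lt_of_generic hn hK2 b1)
    (dim_support_lt_of_generic hn hQ2 b2) hL i
  refine ⟨C₁ + C₂, add_nonneg hC₁ hC₂, fun m => ?_⟩
  have f₁ := e₁ m
  have f₂ := e₂ m
  rw [h_free r (CohB1.tensorPow L m) k (Fga.HodgeSec.isCoh_of_isInvertible (isInvertible_tensorPow hL m)) i] at f₂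
  push_cast at f₂
  rw [abs_le] at f₁ f₂ ⊢
  rw [add_mul]
  constructor <;> linarith [f₁.1, f₁.2, f₂.1, f₂.2]

theorem hhatF_eq_rank_mul {A : X.Modules} (hA : CohB1.IsAmple A) (n : ℕ) (hn : topologicalKrullDim X = n)
    {F : X.Modules} (hF : Coh.IsCoh F) (r : ℕ)
    (hr : Module.finrank (X.presheaf.stalk (genericPoint X)) (F.presheaf.stalk (genericPoint X)) = r)
    {L : X.Modules} (hL : PicF.IsInvertible L) (i : ℕ) :
    hhatF k X n i F L = (r : ℝ) * hhat k X n i L := by
  obtain ⟨C, hC, h1⟩ := h_rank_diff k hA n hn hF r hr hL i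
  unfold hhat
  rw [← Limsup.limsup_const_mul' (r : ℝ) (Nat.cast_nonneg r)]
  unfold hhatF
  cases n with
  | zero =>
    congr 1
    funext m
    have h2 := h1 m
    rw [bdR_zero, mul_zero, abs_nonpos_iff, sub_eq_zero] at h2
    change (h k (CohB1.tensorMod F (CohB1.tensorPow L m)) i : ℝ) * _ / _ =
      r * ((h k (CohB1.tensorPow L m) i : ℝ) * _ / _)
    rw [h2]
    ring
  | succ n =>
    refine (Limsup.limsup_eq_of_abs_sub_le (n := n + 1) (C := C)
      (b := fun m => (r : ℝ) * h k (CohB1.tensorPow L m) i) (Nat.succ_pos n)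
      (Filter.Eventually.of_forall fun m => ?_)).trans ?_
    · have h2 := h1 m
      rwa [bdR_succ] at h2
    · congr 1
      funext m
      change (r : ℝ) * (h k (CohB1.tensorPow L m) i : ℝ) * _ / _ =
        r * ((h k (CohB1.tensorPow L m) i : ℝ) * _ / _)
      ring

end Main

end K434.Rank
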