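import Groth.Agent.ProjDual.K273.PnStalk
import Groth.Agent.ProjDual.K273.QCohHom
import Groth.Agent.CalgC.KoszulVan
import Groth.Agent.CohqB.DevSupport

/-!
# Vanishing of the stalks of `Ext^q(i_*O_X, F)` near Koszul-regular points

For a closed immersion `i : X ⟶ Y` cut out near `i x` by a weakly regular sequence of length `c` and a quasi-coherent `F`,
the point `x` is not in the support of `H^q(Hom(O_X, R))` for `q > c` (`not_mem_support_of_seq`).
-/

set_option autoImplicit false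

universe u

open CategoryTheory CategoryTheory.Limits CategoryTheory.Abelian AlgebraicGeometry Opposite TopologicalSpace
open Groth.Agent Groth.Agent.Sga67.Sec Groth.Agent.Dual.H377 Groth.Agent.Dual.H377.ChartCls
open Groth.Agent.Dual.H376 Groth.Agent.Dual.H376.ChartExist Groth.Agent.Dual.H376.Core
open Groth.Agent.Sga67.LocBasisStalk Groth.Agent.Dual.H376.HomSec
open K273.EvF K273.SecExt

namespace K434.ExtSupp

variable {X Y : Scheme.{u}} {i : X ⟶ Y} [IsClosedImmersion i]

omit [IsClosedImmersion i] in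
theorem extVan_of_seq (F : Y.Modules) (U : Y.affineOpens) (l : List Γ(Y, U.1))
    (hl : RingTheory.Sequence.IsWeaklyRegular Γ(Y, U.1) l) (hI : i.ker.ideal U = Ideal.ofList l) (q : ℕ)
    (hq : l.length < q) : ExtVan i F U q := by
  unfold ExtVan
  have h0 : HasProjectiveDimensionLE (ModuleCat.of Γ(Y, U.1) Γ(Y, U.1)) 0 := inferInstance
  have h1 := CalgC.KoszulVan.hasProjectiveDimensionLE_quotient_of_isWeaklyRegular l Γ(Y, U.1) 0 h0 hl
  have e : (Γ(Y, U.1) ⧸ (Ideal.ofList l • ⊤ : Submodule Γ(Y, U.1) Γ(Y, U.1))) ≃ₗ[Γ(Y, U.1)]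
      (Γ(Y, U.1) ⧸ i.ker.ideal U) := Submodule.quotEquivOfEq _ _ (by rw [hI, smul_eq_mul, Ideal.mul_top])
  have h2 := ModuleCat.hasProjectiveDimensionLE_of_linearEquiv
    (M := ModuleCat.of Γ(Y, U.1) _) (N := ModuleCat.of Γ(Y, U.1) _) e (0 + l.length)
  exact HasProjectiveDimensionLT.subsingleton _ (0 + l.length + 1) q (by omega) _

omit [IsClosedImmersion i] in
theorem exists_seq_basicOpen (V : Y.affineOpens) (l : List Γ(Y, V.1))
    (hl : RingTheory.Sequence.IsWeaklyRegular Γ(Y, V.1) l) (hI : i.ker.ideal V = Ideal.ofList l) (f : Γ(Y, V.1)) :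
    ∃ l' : List Γ(Y, (Y.affineBasicOpen f).1), l'.length = l.length ∧
      RingTheory.Sequence.IsWeaklyRegular Γ(Y, (Y.affineBasicOpen f).1) l' ∧
      i.ker.ideal (Y.affineBasicOpen f) = Ideal.ofList l' := by
  let _ : Algebra Γ(Y, V.1) Γ(Y, (Y.affineBasicOpen f).1) := inferInstanceAs (Algebra Γ(Y, V.1) Γ(Y, Y.basicOpen f))
  have hloc : IsLocalization.Away f Γ(Y, (Y.affineBasicOpen f).1) := V.2.isLocalization_basicOpen f
  refine ⟨l.map (algebraMap Γ(Y, V.1) Γ(Y, (Y.affineBasicOpen f).1)), List.length_map .., ?_, ?_⟩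
  · exact hl.of_isLocalization Γ(Y, (Y.affineBasicOpen f).1) (Submonoid.powers f)
  · rw [← Ideal.map_ofList, ← hI]
    exact (i.ker.map_ideal_basicOpen V f).symm

variable [Dual3.HasHomO i] {F : Y.Modules} (R : InjectiveResolution F)

/-- **Vanishing of the stalks** above the codimension. -/
theorem not_mem_support_of_seq (hF : Coh.IsQCoh F) (q : ℕ) (x : X) (V : Y.affineOpens) (hxV : i x ∈ V.1)
    (l : List Γ(Y, V.1)) (hl : RingTheory.Sequence.IsWeaklyRegular Γ(Y, V.1) l)
    (hI : i.ker.ideal V = Ideal.ofList l) (hq : l.length < q) :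
    x ∉ CohB1.support ((EE i R.cochainComplex).homology (q : ℤ)) := by
  rw [CohqB.DevSupport.not_mem_support_iff]
  have key : ∀ t : ((EE i R.cochainComplex).homology (q : ℤ)).presheaf.stalk x, t = 0 := by
    intro t
    obtain ⟨W₀, hxW₀, τ₀, rfl⟩ := exists_ger _ x t
    obtain ⟨W, hW, hxW, z, hz⟩ := exists_cl_locally τ₀ x hxW₀
    have hzd := hz.d_eq_zero ((q : ℤ) + 1)
    obtain ⟨O, hO, hOW⟩ := exists_open_preimage (i := i) hxW
    obtain ⟨f, hfO, hxf⟩ := V.2.exists_basicOpen_le (V := O) ⟨i x, hO⟩ hxV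
    let U : Y.affineOpens := Y.affineBasicOpen f
    have hUO : U.1 ≤ O := hfO
    obtain ⟨l', hl', hr', hI'⟩ := exists_seq_basicOpen V l hl hI f
    have hE : ExtVan i F U q := extVan_of_seq F U l' hr' hI' q (by omega)
    have hcW : i ⁻¹ᵁ U.1 ≤ W := (i.preimage_mono hUO).trans hOW
    obtain ⟨y, hy, hdy⟩ := exists_boundary R hF q U hE (kE (q : ℤ) U.1 (res _ hcW z)) (kills_kE R _ U _) (by
      rw [← kE_d, appS_res, hzd, map_zero, map_zero])
    obtain ⟨b, rfl⟩ := exists_kE' R hy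
    have hdb : appS ((EE i R.cochainComplex).d ((q : ℤ) - 1) (q : ℤ)) (i ⁻¹ᵁ U.1) b = res _ hcW z := by
      apply kE_injective
      rw [kE_d]
      exact hdy
    have h1 := cl_boundary (E := EE i R.cochainComplex) (j := (q : ℤ)) ((q : ℤ) - 1) b
    rw [hdb] at h1
    have h2 := (hz.res hcW).unique h1
    rw [res_res] at h2
    have hxU : x ∈ i ⁻¹ᵁ U.1 := hxf
    rw [← ger_res _ (hcW.trans hW) x hxU τ₀, h2, ger_zero]
  exact ⟨fun a b => (key a).trans (key b).symm⟩

end K434.ExtSupp
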