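import Groth.Agent.Variety.K434.SSBound
import Groth.Agent.Variety.K434.ExtSupp
import Groth.Agent.Variety.K434.Rank
import Groth.Agent.ProjDual.K274.PnSerre
import Groth.Agent.ProjDual.K274.TensLin
import Groth.Agent.CalgB.ProjField
import Groth.Agent.Pic13.H951.PresentX
import Groth.Agent.CurvesC.DegIso

/-!
# Asymptotic Serre duality on an integral projective scheme

`X` integral, proper over a field `k`, with an ample invertible module, of dimension `n`; `L ⊗ M ≅ O_X`.  Then
`|h^i(X, L^m) - h^{n-i}(X, M^m)| ≤ C bdR n m` (`h_duality`) and `ĥ^i(X, L) = ĥ^{n-i}(X, M)` (`hhat_duality`).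

For a closed immersion `ι : X → P^N` and `R` an injective resolution of `ω = O(-N-1)` put
`E^q = H^q(Hom(O_X, R)) = Ext^q(ι_*O_X, ω)`.  Serre duality on `P^N` and the spectral sequence
`Ext^p_X(T, E^q) ⇒ Ext^{p+q}_P(ι_*T, ω)` bound `h^i(X, T)` by `∑_q h^{N-i-q}(X, E^q ⊗ T^{-1})`; `E^q = 0` for `q < N - n`,
`E^{N-n}` has rank one and the other `E^q` are torsion.
-/

set_option autoImplicit false
universe u
open CategoryTheory CategoryTheory.Limits AlgebraicGeometry Opposite TopologicalSpace

namespace K434.AsympDual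

open Groth.Agent Groth.Agent.Ega2 Groth.Agent.CohqB.DevSupport
open Groth.Agent.Fga.PicMon Groth.Agent.Pic13.H946.Core
open K434.HBound K434.DevIrred K434.Steps K434.Growth K434.ZTwist K434.Asymp K434.Rank W4c5asymptcohfn
open Groth.Agent.Dual.H376.Core

section Bound

variable (k : Type u) [Field k] {X : Scheme.{u}} [X.Over (Spec (CommRingCat.of k))] {N : ℕ}
  (ι : X ⟶ CohB1.ProjSpace N k) [IsClosedImmersion ι]

/-- `E^q = Ext^q(ι_*O_X, ω)` as a module on `X`. -/
noncomputable def EQ [Dual3.HasHomO ι] (R : InjectiveResolution (K274.PnSerre.om k N)) (q : ℕ) : X.Modules :=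
  (EE ι R.cochainComplex).homology (q : ℤ)

/-- Comparison of the two indexings. -/
noncomputable def cxIso [Dual3.HasHomO ι] (R : InjectiveResolution (K274.PnSerre.om k N)) (q : ℕ) :
    (K274.Shift.cx (Dual3.homO ι) R).homology q ≅ EQ k ι R q :=
  (HomologicalComplex.extendHomologyIso (K274.Shift.cx (Dual3.homO ι) R) ComplexShape.embeddingUpNat (j := q)
    (j' := (q : ℤ)) rfl).symm ≪≫
      HomologicalComplex.homologyMapIso
        (Groth.Agent.Cohder.MapExtend.mapExtendIso (Dual3.homO ι) R.cocomplex ComplexShape.embeddingUpNat).symm (q : ℤ)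

variable (hι : ι ≫ (CohB1.ProjSpace N k ↘ Spec (CommRingCat.of k)) = X ↘ Spec (CommRingCat.of k))

include hι in
theorem isNoetherian_of_closed : IsNoetherian X := by
  have hN := Groth.Agent.Sga5.ProjReg.isNoetherian_projSpace N k
  exact K273.PnStalk.isNoetherian_of_closed ι

theorem isCoh_EQ [Dual3.HasHomO ι] [EnoughInjectives (CohB1.ProjSpace N k).Modules]
    (R : InjectiveResolution (K274.PnSerre.om k N)) (q : ℕ) : Coh.IsCoh (EQ k ι R q) := by
  have hN := Groth.Agent.Sga5.ProjReg.isNoetherian_projSpace N k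
  exact K273.QCohHom.isCoh_homology ι R (K274.PnTwist.isCoh_tw N k _) q

include hι in
/-- **The bound** of `h^i(X, T)`. -/
theorem h_le [IsProper (X ↘ Spec (CommRingCat.of k))] [Dual3.HasHomO ι]
    [EnoughInjectives (CohB1.ProjSpace N k).Modules]
    (R : InjectiveResolution (K274.PnSerre.om k N)) {T T' : X.Modules} (hT : PicF.IsInvertible T)
    (hT' : PicF.IsInvertible T') (e : CohB1.tensorMod T' T ≅ Coh.structureModule X) (i : ℕ) (hi : i ≤ N) :
    h k T i ≤ ∑ q ∈ Finset.range (N - i + 1), h k (CohB1.tensorMod (EQ k ι R q) T') (N - i - q) := by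
  have hN := Groth.Agent.Sga5.ProjReg.isNoetherian_projSpace N k
  have hX := isNoetherian_of_closed k ι hι
  have hTc : Coh.IsCoh T := Fga.HodgeSec.isCoh_of_isInvertible hT
  let hE1 : HasExt.{u + 1} X.Modules := HasExt.standard X.Modules
  let hE2 : HasExt.{u + 1} (CohB1.ProjSpace N k).Modules := HasExt.standard _
  have hover : ι.IsOver (Spec (CommRingCat.of k)) := ⟨hι⟩
  have hG : Coh.IsCoh ((Scheme.Modules.pushforward ι).obj T) := Pic13.H951.PresentX.isCoh_push k ι hTc
  -- duality on `P^N`
  obtain ⟨e1⟩ := K274.PnSerre.nonempty_equiv.{u + 1} k N ((Scheme.Modules.pushforward ι).obj T) hG (N - i)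
    (Nat.sub_le _ _)
  have h1 : h k T i = Module.finrank k (Abelian.Ext.{u + 1} ((Scheme.Modules.pushforward ι).obj T)
      (K274.PnSerre.om k N) (N - i)) := by
    rw [e1.finrank_eq, Subspace.dual_finrank_eq, Nat.sub_sub_self hi]
    exact (CurvesC.DegIso.finrank_push k ι hι T i).symm
  have hfin : Module.Finite k (Abelian.Ext.{u + 1} ((Scheme.Modules.pushforward ι).obj T)
      (K274.PnSerre.om k N) (N - i)) := by
    have : Module.Finite k ((Sga2.PnHHDelta.hF k (CohB1.ProjSpace N k) (N - (N - i))).obj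
        ((Scheme.Modules.pushforward ι).obj T)) := Fga.HodgeSec.finite_HH' k hG _
    exact Module.Finite.equiv e1.symm
  -- the spectral sequence
  have h2 := SSBound.length_ext_le (R := k) (Dual3.homOAdj ι) R T (N - i)
  rw [Module.length_eq_finrank, ← h1] at h2
  have h3 : ∀ q, Module.length k (Abelian.Ext.{u + 1} T ((K274.Shift.cx (Dual3.homO ι) R).homology q) (N - i - q)) =
      ((h k (CohB1.tensorMod (EQ k ι R q) T') (N - i - q) : ℕ) : ℕ∞) := by
    intro q
    obtain ⟨e2⟩ := K274.TensLin.nonempty_extInv k e (EQ k ι R q) (N - i - q)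
    obtain ⟨e3⟩ := K274.TensLin.nonempty_extIsoRight k T (cxIso k ι R q) (N - i - q)
    have hc : Coh.IsCoh (CohB1.tensorMod (EQ k ι R q) T') :=
      Groth.Agent.CohqB.SerTw.isCoh_tensorMod (isCoh_EQ k ι R q) hT'
    have hf : Module.Finite k ((Sga2.PnHHDelta.hF k X (N - i - q)).obj (CohB1.tensorMod (EQ k ι R q) T')) :=
      Fga.HodgeSec.finite_HH' k hc _
    rw [(e3.trans e2).length_eq, Module.length_eq_finrank]
    rfl
  rw [Finset.sum_congr rfl fun q _ => h3 q, ← Nat.cast_sum] at h2
  exact_mod_cast h2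

variable (n : ℕ) (hn : topologicalKrullDim X = n) [IsIntegral X]

include hn in
theorem dim_component (Z : Set X) (hZ : Z ∈ irreducibleComponents X) :
    topologicalKrullDim Z = (n : WithBot ℕ∞) := by
  rw [irreducibleComponents_eq_singleton, Set.mem_singleton_iff] at hZ
  subst hZ
  rw [← hn]
  exact IsHomeomorph.topologicalKrullDim_eq _ (Homeomorph.Set.univ X).isHomeomorph

include hn ι in
theorem dim_le : n ≤ N := by
  have h1 : topologicalKrullDim X ≤ topologicalKrullDim (CohB1.ProjSpace N k) :=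
    ι.isClosedEmbedding.isInducing.topologicalKrullDim_le
  rw [hn, K711.ProjDim.topologicalKrullDim_projSpace] at h1
  exact_mod_cast h1

omit [IsClosedImmersion ι] in
theorem closure_genericPoint_mem : closure ({genericPoint X} : Set X) ∈ irreducibleComponents X := by
  rw [irreducibleComponents_eq_singleton, genericPoint_closure]
  rfl

include hn in
/-- The generic ranks of the `E^q`. -/
theorem finrank_EQ [Dual3.HasHomO ι] [EnoughInjectives (CohB1.ProjSpace N k).Modules]
    (R : InjectiveResolution (K274.PnSerre.om k N)) (q : ℕ) :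
    Module.finrank (X.presheaf.stalk (genericPoint X)) ((EQ k ι R q).presheaf.stalk (genericPoint X)) =
      if q = N - n then 1 else 0 := by
  have hN := Groth.Agent.Sga5.ProjReg.isNoetherian_projSpace N k
  have hX := K273.PnStalk.isNoetherian_of_closed ι
  have hle := dim_le k ι n hn
  have hF : FlatMod.IsFinLocFreeOfRank 1 (K274.PnSerre.om k N) :=
    K273.PnTors.isFinLocFreeOfRank_twist k N (-((N : ℤ) + 1))
  have heq := dim_component n hn
  split_ifs with hq
  · subst hq
    exact K273.PnStalk.finrank_eq_one k N n hle ι heq hF R (Iso.refl _) _ (closure_genericPoint_mem (X := X))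
  · have hsub : Subsingleton ((EQ k ι R q).presheaf.stalk (genericPoint X)) := by
      rw [← not_mem_support_iff]
      obtain ⟨b, hb, hb'⟩ := K273.PnDim.exists_dims k N n hle ι heq (genericPoint X)
      rw [K273.PnDim.ringKrullDim_eq_zero _ (closure_genericPoint_mem (X := X))] at hb'
      have h0 : b = 0 := by exact_mod_cast hb'.symm
      subst h0
      rw [add_zero] at hb
      rcases lt_or_gt_of_ne hq with hlt | hgt
      · have hz : IsZero (EQ k ι R q) := by
          refine K273.Van.isZero_homology_of_dim_ne (i := ι) (Groth.Agent.Sga5.ProjReg.isRegularLocalRing_stalk N k) R hF q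
            fun x hx => ?_
          obtain ⟨b, hb, -⟩ := K273.PnDim.exists_dims k N n hle ι heq x
          rw [hb] at hx
          have h1 : N - n + b = q := by exact_mod_cast hx
          omega
        rw [not_mem_support_iff_isZero]
        exact (stalkF X (genericPoint X)).map_isZero hz
      · obtain ⟨V, l, hxV, hlc, hl, hI⟩ := K273.RegPt.exists_seq ι (genericPoint X)
          (Groth.Agent.Sga5.ProjReg.isRegularLocalRing_stalk N k _)
          (K273.RegPt.isField_stalk _ (closure_genericPoint_mem (X := X)) inferInstance) (N - n) hb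
        exact ExtSupp.not_mem_support_of_seq R (K273.Van.isQCoh_of_rank_one hF) q _ V hxV l hl hI (by omega)
    exact Module.finrank_zero_of_subsingleton

include hι hn in
/-- One half of the asymptotic duality. -/
theorem h_le_pow [IsProper (X ↘ Spec (CommRingCat.of k))] {A : X.Modules} (hA : CohB1.IsAmple A)
    {L M : X.Modules} (hM : ClSub.IsInverseOf L M) (i : ℕ) (hi : i ≤ n) :
    ∃ C : ℝ, 0 ≤ C ∧ ∀ m : ℕ, (h k (CohB1.tensorPow L m) i : ℝ) ≤
      h k (CohB1.tensorPow M m) (n - i) + C * bdR n m := by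
  have hHom := Groth.Agent.S3630.result X (CohB1.ProjSpace N k) ι
  have hEI := CurvesC.ExtUnit.enoughInjectives_modules (CohB1.ProjSpace N k)
  have hL := (isInvertible_of_inverse hM).1
  have hM' := (isInvertible_of_inverse hM).2
  have hle := dim_le k ι n hn
  let R : InjectiveResolution (K274.PnSerre.om k N) := injectiveResolution _
  choose C hC h1 using fun q : ℕ => h_rank_diff k hA n hn (isCoh_EQ k ι R q) _ (finrank_EQ k ι n hn R q) hM' (N - i - q)
  refine ⟨∑ q ∈ Finset.range (N - i + 1), C q, Finset.sum_nonneg fun q _ => hC q, fun m => ?_⟩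
  have hinv : Nonempty (CohB1.tensorMod (CohB1.tensorPow M m) (CohB1.tensorPow L m) ≅ Coh.structureModule X) := by
    refine (mc_eq_iff _ _).1 ?_
    rw [mc_tensor, mc_tensorPow, mc_tensorPow, ← mul_pow, mul_comm, mc_mul_eq_one hM, one_pow, mc_one]
  have h2 := h_le k ι hι R (Fdesc.LocGen.isInvertible_tensorPow hL m) (Fdesc.LocGen.isInvertible_tensorPow hM' m) hinv.some i (hi.trans hle)
  have h3 : (h k (CohB1.tensorPow L m) i : ℝ) ≤ ∑ q ∈ Finset.range (N - i + 1),
      (h k (CohB1.tensorMod (EQ k ι R q) (CohB1.tensorPow M m)) (N - i - q) : ℝ) := by exact_mod_cast h2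
  refine h3.trans ?_
  have h4 : ∀ q ∈ Finset.range (N - i + 1),
      (h k (CohB1.tensorMod (EQ k ι R q) (CohB1.tensorPow M m)) (N - i - q) : ℝ) ≤
        (if q = N - n then (h k (CohB1.tensorPow M m) (n - i) : ℝ) else 0) + C q * bdR n m := by
    intro q _
    have h5 := (abs_le.1 (h1 q m)).2
    split_ifs at h5 ⊢ with hq
    · subst hq
      have h6 : N - i - (N - n) = n - i := by omega
      rw [h6] at h5 ⊢
      rw [Nat.cast_one, one_mul] at h5
      linarith
    · rw [Nat.cast_zero, zero_mul] at h5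
      linarith
  refine (Finset.sum_le_sum h4).trans ?_
  rw [Finset.sum_add_distrib, ← Finset.sum_mul, Finset.sum_ite_eq']
  have h7 : N - n ∈ Finset.range (N - i + 1) := by
    rw [Finset.mem_range]; omega
  rw [if_pos h7]

end Bound

section Main

variable (k : Type u) [Field k] {X : Scheme.{u}} [X.Over (Spec (CommRingCat.of k))]
  [IsProper (X ↘ Spec (CommRingCat.of k))] [IsIntegral X] {A : X.Modules} (hA : CohB1.IsAmple A)
  (n : ℕ) (hn : topologicalKrullDim X = n) {L M : X.Modules} (hM : ClSub.IsInverseOf L M) (i : ℕ) (hi : i ≤ n)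

omit [IsProper (X ↘ Spec (CommRingCat.of k))] [IsIntegral X] [X.Over (Spec (CommRingCat.of k))] in
theorem isInverseOf_symm (hM : ClSub.IsInverseOf L M) : ClSub.IsInverseOf M L := by
  have h1 := mc_mul_eq_one hM
  rw [mul_comm, ← mc_tensor, ← mc_one] at h1
  exact (mc_eq_iff _ _).1 h1

include hA hn hM hi in
/-- **Asymptotic Serre duality.** -/
theorem h_duality : ∃ C : ℝ, 0 ≤ C ∧ ∀ m : ℕ,
    |(h k (CohB1.tensorPow L m) i : ℝ) - h k (CohB1.tensorPow M m) (n - i)| ≤ C * bdR n m := by
  obtain ⟨N, ι, hcl, hι⟩ := Groth.Agent.CalgB.ProjField.exists_closedImmersion_projSpace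
    (X ↘ Spec (CommRingCat.of k)) ⟨A, hA⟩
  obtain ⟨C₁, hC₁, h1⟩ := h_le_pow k ι hι n hn hA hM i hi
  obtain ⟨C₂, hC₂, h2⟩ := h_le_pow k ι hι n hn hA (isInverseOf_symm hM) (n - i) (Nat.sub_le n i)
  refine ⟨C₁ + C₂, add_nonneg hC₁ hC₂, fun m => ?_⟩
  have h3 := h1 m
  have h4 := h2 m
  rw [Nat.sub_sub_self hi] at h4
  have h5 : 0 ≤ bdR n (m : ℝ) := bdR_nonneg n (Nat.cast_nonneg m)
  have h6 := mul_nonneg hC₁ h5
  have h7 := mul_nonneg hC₂ h5
  rw [abs_le, add_mul]
  constructor <;> linarith

include hA hn hM hi in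
theorem hhat_duality : hhat k X n i L = hhat k X n (n - i) M := by
  obtain ⟨C, hC, h1⟩ := h_duality k hA n hn hM i hi
  unfold hhat
  cases n with
  | zero =>
    congr 1
    funext m
    have h2 := h1 m
    rw [bdR_zero, mul_zero, abs_nonpos_iff, sub_eq_zero] at h2
    change (h k (CohB1.tensorPow L m) i : ℝ) * _ / _ = (h k (CohB1.tensorPow M m) (0 - i) : ℝ) * _ / _
    rw [h2]
  | succ n =>
    refine Limsup.limsup_eq_of_abs_sub_le (n := n + 1) (C := C) (Nat.succ_pos n)
      (Filter.Eventually.of_forall fun m => ?_)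
    have h2 := h1 m
    rwa [bdR_succ] at h2

end Main

end K434.AsympDual
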