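import Groth.Agent.Variety.K434.HBound
import Groth.Agent.Variety.K434.DevIrred
import Groth.Agent.Variety.K434.Limsup
import Groth.Prelude.Def_W4c5asymptcohfnACF

/-!
# Growth of cohomology of powers of an invertible module and its stable base locus

`X` proper over a field `k`, `L` invertible, `dim (stable base locus of L) ≤ d`.  Then for every coherent `F` with
support of dimension `≤ e` and every `i > d` there is `C` with `h^i(X, F ⊗ L^m) ≤ C * (m + 1)^(e - 1)`
(and `= 0` if `e = 0`) for all `m`.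
-/

set_option autoImplicit false
universe u
open CategoryTheory CategoryTheory.Limits AlgebraicGeometry Opposite TopologicalSpace

namespace K434.SblBound

open Groth.Agent Groth.Agent.Ega2 Groth.Agent.Fdesc.LocGen Groth.Agent.CohqB.SerTw
open Groth.Agent.Fga.PicMon Groth.Agent.Pic13.H946.Core Groth.Agent.CohqB.DevSupport
open K434.HBound K434.DevIrred

/-- The bound: `0` if `e = 0` and `(m + 1)^(e - 1)` otherwise. -/
noncomputable def bd (e m : ℕ) : ℝ := if e = 0 then 0 else ((m : ℝ) + 1) ^ (e - 1)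

theorem bd_nonneg (e m : ℕ) : 0 ≤ bd e m := by
  unfold bd
  split_ifs <;> positivity

theorem bd_succ (e m : ℕ) : bd (e + 1) m = ((m : ℝ) + 1) ^ e := by
  simp [bd]

/-- Summing a recursive inequality along residue classes. -/
theorem bound_of_step {u : ℕ → ℝ} {p e : ℕ} (hp : 1 ≤ p) {C : ℝ} (hC : 0 ≤ C)
    (h : ∀ m, u (m + p) ≤ u m + C * bd e m) : ∃ C' : ℝ, 0 ≤ C' ∧ ∀ m, u m ≤ C' * bd (e + 1) m := by
  set M : ℝ := (Finset.range p).sum (fun r => |u r|) + C with hM
  have hM0 : 0 ≤ M := add_nonneg (Finset.sum_nonneg fun _ _ => abs_nonneg _) hC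
  refine ⟨M, hM0, fun m => ?_⟩
  induction m using Nat.strong_induction_on with
  | _ m ih =>
    rw [bd_succ]
    have h1 : (1 : ℝ) ≤ ((m : ℝ) + 1) ^ e := one_le_pow₀ (by linarith [Nat.cast_nonneg (α := ℝ) m])
    by_cases hm : m < p
    · have h2 : |u m| ≤ (Finset.range p).sum (fun r => |u r|) :=
        Finset.single_le_sum (f := fun r => |u r|) (fun _ _ => abs_nonneg _) (Finset.mem_range.2 hm)
      calc u m ≤ |u m| := le_abs_self _
        _ ≤ M := by rw [hM]; linarith
        _ = M * 1 := (mul_one _).symm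
        _ ≤ M * ((m : ℝ) + 1) ^ e := mul_le_mul_of_nonneg_left h1 hM0
    · obtain ⟨m', rfl⟩ : ∃ m', m = m' + p := ⟨m - p, by omega⟩
      have h3 := ih m' (by omega)
      rw [bd_succ] at h3
      have h4 := h m'
      have hp' : (1 : ℝ) ≤ p := by exact_mod_cast hp
      have hm' : (0 : ℝ) ≤ m' := Nat.cast_nonneg _
      rcases Nat.eq_zero_or_pos e with rfl | he
      · simp only [bd, if_true, mul_zero, add_zero, pow_zero, mul_one] at h3 h4 ⊢
        linarith
      · obtain ⟨e, rfl⟩ : ∃ e', e = e' + 1 := ⟨e - 1, by omega⟩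
        rw [bd_succ] at h4
        have hCM : C ≤ M := by
          rw [hM]
          have := Finset.sum_nonneg (s := Finset.range p) (f := fun r => |u r|) fun _ _ => abs_nonneg _
          linarith
        calc u (m' + p) ≤ M * ((m' : ℝ) + 1) ^ (e + 1) + C * ((m' : ℝ) + 1) ^ e := by linarith
          _ ≤ M * ((m' : ℝ) + 1) ^ (e + 1) + M * ((m' : ℝ) + 1) ^ e := by gcongr
          _ = M * (((m' : ℝ) + 1) ^ e * ((m' : ℝ) + 2)) := by ring
          _ ≤ M * (((m' : ℝ) + p + 1) ^ e * ((m' : ℝ) + p + 1)) := by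
              refine mul_le_mul_of_nonneg_left (mul_le_mul (pow_le_pow_left₀ (by positivity) (by linarith) e)
                (by linarith) (by positivity) (by positivity)) hM0
          _ = M * (((m' + p : ℕ) : ℝ) + 1) ^ (e + 1) := by push_cast; ring

variable (k : Type u) [Field k] {X : Scheme.{u}} [X.Over (Spec (CommRingCat.of k))]

/-- `h^i(F ⊗ L^m) = O(bd e m)` for all `i > d`. -/
def Small (d e : ℕ) (L F : X.Modules) : Prop :=
  ∀ i, d < i → ∃ C : ℝ, 0 ≤ C ∧ ∀ m : ℕ,
    (h k (CohB1.tensorMod F (CohB1.tensorPow L m)) i : ℝ) ≤ C * bd e m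

theorem Small.of_zero {d e : ℕ} {L F : X.Modules}
    (hF : ∀ i, d < i → ∀ m, Subsingleton (Coh.HH X (CohB1.tensorMod F (CohB1.tensorPow L m)) i)) :
    Small k d e L F := by
  intro i hi
  refine ⟨0, le_rfl, fun m => ?_⟩
  rw [h_eq_zero k (hF i hi m)]
  simp

theorem Small.congr {d e : ℕ} {L F G : X.Modules} (a : F ≅ G) (hF : Small k d e L F) :
    Small k d e L G := by
  intro i hi
  obtain ⟨C, hC, h1⟩ := hF i hi
  refine ⟨C, hC, fun m => ?_⟩
  rw [← h_iso k (Tens.mapTIso a (Iso.refl (CohB1.tensorPow L m)))]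
  exact h1 m

theorem Small.of_isZero {d e : ℕ} {L F : X.Modules} (hF : IsZero F) : Small k d e L F :=
  Small.of_zero k fun i _ m => by
    have h1 : IsZero (CohB1.tensorMod F (CohB1.tensorPow L m)) := (tw (CohB1.tensorPow L m)).map_isZero hF
    exact Fga.IntNum0.HH_subsingleton_of_isZero h1 i

variable [IsProper (X ↘ Spec (CommRingCat.of k))]

theorem Small.of_dim {d e : ℕ} {L F : X.Modules} (hL : PicF.IsInvertible L) (hF : Coh.IsCoh F)
    (hd : topologicalKrullDim (CohB1.support F) ≤ (d : WithBot ℕ∞)) : Small k d e L F :=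
  Small.of_zero k fun i hi m => by
    refine Fga.HodgeSec.subsingleton_HH_of_support k (isCoh_tensorMod hF (isInvertible_tensorPow hL m)) d ?_ i hi
    rwa [support_tw (isInvertible_tensorPow hL m)]

theorem Small.mid {d e : ℕ} {L : X.Modules} (hL : PicF.IsInvertible L) {S : ShortComplex X.Modules}
    (hS : S.ShortExact) (c1 : Coh.IsCoh S.X₁) (c2 : Coh.IsCoh S.X₂) (c3 : Coh.IsCoh S.X₃)
    (h1 : Small k d e L S.X₁) (h3 : Small k d e L S.X₃) : Small k d e L S.X₂ := by
  intro i hi
  obtain ⟨C₁, hC₁, h1⟩ := h1 i hi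
  obtain ⟨C₃, hC₃, h3⟩ := h3 i hi
  refine ⟨C₁ + C₃, add_nonneg hC₁ hC₃, fun m => ?_⟩
  have hN := isInvertible_tensorPow hL m
  have h2 := h_mid k (shortExact_tw hN hS) (isCoh_tensorMod c2 hN) (isCoh_tensorMod c1 hN)
    (isCoh_tensorMod c3 hN) i
  have h2' : (h k (CohB1.tensorMod S.X₂ (CohB1.tensorPow L m)) i : ℝ) ≤
      h k (CohB1.tensorMod S.X₁ (CohB1.tensorPow L m)) i +
      h k (CohB1.tensorMod S.X₃ (CohB1.tensorPow L m)) i := by exact_mod_cast h2
  have := h1 m
  have := h3 m
  rw [add_mul]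
  linarith

omit [X.Over (Spec (CommRingCat.of k))] [IsProper (X ↘ Spec (CommRingCat.of k))] in
theorem isClosed_stableBaseLocus (L : X.Modules) : IsClosed (W4c5asymptcohfn.stableBaseLocus X L) := by
  refine isClosed_iInter fun m => ?_
  have : W4c5asymptcohfn.baseLocus X (CohB1.tensorPow L (m + 1)) =
      ⋂ s : Coh.structureModule X ⟶ CohB1.tensorPow L (m + 1),
        ((CohB1.genLocus (CohB1.tensorPow L (m + 1)) s : X.Opens) : Set X)ᶜ := by
    ext x
    simp [W4c5asymptcohfn.baseLocus]
  rw [this]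
  exact isClosed_iInter fun s => (CohB1.genLocus _ s).isOpen.isClosed_compl

/-- **Main estimate.** -/
theorem small {L : X.Modules} (hL : PicF.IsInvertible L) {d : ℕ}
    (hd : topologicalKrullDim (W4c5asymptcohfn.stableBaseLocus X L) ≤ (d : WithBot ℕ∞)) (e : ℕ) :
    ∀ F : X.Modules, Coh.IsCoh F → topologicalKrullDim (CohB1.support F) ≤ (e : WithBot ℕ∞) →
      Small k d e L F := by
  have hNoeth : IsNoetherian X := VarietyA.TwistExist.isNoetherian k X
  induction e with
  | zero =>
    intro F hF h0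
    exact Small.of_dim k hL hF (h0.trans (by exact_mod_cast Nat.zero_le d))
  | succ e IH =>
    refine devissage (e + 1) (Small k d (e + 1) L) (fun M N ⟨a⟩ hM => hM.congr k a)
      (fun M hM => Small.of_isZero k hM) (fun S hS c1 c2 c3 h1 h3 => Small.mid k hL hS c1 c2 c3 h1 h3) ?_
    intro G ξ hG hsupp hdim
    by_cases hξ : ξ ∈ W4c5asymptcohfn.stableBaseLocus X L
    · refine Small.of_dim k hL hG (le_trans (Fga.DimLt.topologicalKrullDim_mono ?_) hd)
      rw [hsupp]
      exact closure_minimal (by simpa using hξ) (isClosed_stableBaseLocus L)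
    · simp only [W4c5asymptcohfn.stableBaseLocus, W4c5asymptcohfn.baseLocus, Set.mem_iInter,
        Set.mem_setOf_eq, not_forall, not_not] at hξ
      obtain ⟨p, s, hs⟩ := hξ
      have hN := isInvertible_tensorPow hL (p + 1)
      obtain ⟨φ, hk1, hc1, hk2, hc2⟩ := exists_mul hN s hs G
      have hG' : Coh.IsCoh (CohB1.tensorMod G (CohB1.tensorPow L (p + 1))) := isCoh_tensorMod hG hN
      obtain ⟨hK, hQ, -, -⟩ := image_aux k φ hG hG'
      have hKs := IH _ hK (dim_support_le hK hsupp hk2 hk1 hdim)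
      have hQs := IH _ hQ (dim_support_le hQ hsupp hc2 hc1 hdim)
      intro i hi
      obtain ⟨C₁, hC₁, h1⟩ := hKs (i + 1) (by omega)
      obtain ⟨C₂, hC₂, h2⟩ := hQs i hi
      refine bound_of_step (p := p + 1) (by omega) (add_nonneg hC₁ hC₂) fun m => ?_
      have h3 := h_target_le k φ hG hG' (isInvertible_tensorPow hL m) i
      have h3' : (h k (CohB1.tensorMod (CohB1.tensorMod G (CohB1.tensorPow L (p + 1))) (CohB1.tensorPow L m)) i : ℝ) ≤
        h k (CohB1.tensorMod G (CohB1.tensorPow L m)) i +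
        h k (CohB1.tensorMod (kernel φ) (CohB1.tensorPow L m)) (i + 1) +
        h k (CohB1.tensorMod (cokernel φ) (CohB1.tensorPow L m)) i := by exact_mod_cast h3
      have h4 : h k (CohB1.tensorMod (CohB1.tensorMod G (CohB1.tensorPow L (p + 1))) (CohB1.tensorPow L m)) i =
          h k (CohB1.tensorMod G (CohB1.tensorPow L (m + (p + 1)))) i := by
        refine h_congr k ?_ i
        rw [mc_tensor, mc_tensor, mc_tensor, mc_tensorPow, mc_tensorPow, mc_tensorPow, mul_assoc, ← pow_add,
          add_comm (p + 1) m]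
      rw [h4] at h3'
      have := h1 m
      have := h2 m
      rw [add_mul]
      linarith

/-- the consequence for the normalised upper limit. -/
theorem hhat_eq_zero {L : X.Modules} (hL : PicF.IsInvertible L) {d : ℕ}
    (hd : topologicalKrullDim (W4c5asymptcohfn.stableBaseLocus X L) ≤ (d : WithBot ℕ∞)) (n : ℕ)
    (hn : topologicalKrullDim X ≤ (n : WithBot ℕ∞)) (i : ℕ) (hi : d < i) :
    W4c5asymptcohfn.hhat k X n i L = 0 := by
  have hO : Coh.IsCoh (Coh.structureModule X) := Fga.HodgeSec.isCoh_of_isInvertible isInvertible_structureModule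
  obtain ⟨C, hC, h1⟩ := small k hL hd n (Coh.structureModule X) hO
    (le_trans Topology.IsInducing.subtypeVal.topologicalKrullDim_le hn) i hi
  have h2 : ∀ m : ℕ, (Module.finrank k (Coh.HH X (CohB1.tensorPow L m) i) : ℝ) ≤ C * bd n m := by
    intro m
    have h3 := h1 m
    have h4 : h k (CohB1.tensorMod (Coh.structureModule X) (CohB1.tensorPow L m)) i =
        h k (CohB1.tensorPow L m) i := by
      refine h_congr k ?_ i
      rw [mc_tensor, mc_one, one_mul]
    rw [h4] at h3
    exact h3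
  unfold W4c5asymptcohfn.hhat
  rcases Nat.eq_zero_or_pos n with rfl | hn0
  · refine Filter.Tendsto.limsup_eq (tendsto_const_nhds.congr fun m => ?_)
    have h3 := h2 m
    simp only [bd, if_true, mul_zero] at h3
    have h4 : (Module.finrank k (Coh.HH X (CohB1.tensorPow L m) i) : ℝ) = 0 :=
      le_antisymm h3 (Nat.cast_nonneg _)
    rw [h4]
    simp
  · refine Filter.Tendsto.limsup_eq (Limsup.tendsto_div_pow (C := C) hn0 (Filter.Eventually.of_forall fun m => ?_))
    rw [abs_of_nonneg (Nat.cast_nonneg _)]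
    have h3 := h2 m
    obtain ⟨n, rfl⟩ : ∃ n', n = n' + 1 := ⟨n - 1, by omega⟩
    rwa [bd_succ] at h3

end K434.SblBound
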