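import Mathlib.Analysis.Normed.Group.Basic
import Mathlib.Analysis.Normed.Group.Constructions
import Mathlib.Analysis.Normed.Lp.PiLp
import Mathlib.Topology.Algebra.Order.LiminfLimsup

/-!
# Functions on `ℤ^r` with small steps

* `bdR e x`: `0` if `e = 0` and `(x + 1)^(e - 1)` otherwise.
* `nm c`: the sup norm of an integer vector.
* `abs_sub_le_of_steps`: a function on a box of `ℤ^r` whose unit steps are bounded by `K` changes by at most
  `K * ∑ |a_j - b_j|`.
-/

set_option autoImplicit false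

namespace K434.Steps

/-- `0` if `e = 0` and `(x + 1)^(e - 1)` otherwise. -/
noncomputable def bdR (e : ℕ) (x : ℝ) : ℝ := if e = 0 then 0 else (x + 1) ^ (e - 1)

@[simp] theorem bdR_zero (x : ℝ) : bdR 0 x = 0 := by simp [bdR]

@[simp] theorem bdR_succ (e : ℕ) (x : ℝ) : bdR (e + 1) x = (x + 1) ^ e := by simp [bdR]

theorem bdR_nonneg (e : ℕ) {x : ℝ} (hx : 0 ≤ x) : 0 ≤ bdR e x := by
  unfold bdR
  split_ifs
  · exact le_rfl
  · positivity

theorem bdR_mono (e : ℕ) {x y : ℝ} (hx : 0 ≤ x) (hxy : x ≤ y) : bdR e x ≤ bdR e y := by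
  unfold bdR
  split_ifs
  · exact le_rfl
  · gcongr

variable {r : ℕ}

/-- The sup norm of an integer vector. -/
noncomputable def nm (c : Fin r → ℤ) : ℝ := ‖(fun j => ((c j : ℤ) : ℝ))‖

theorem nm_nonneg (c : Fin r → ℤ) : 0 ≤ nm c := norm_nonneg _

theorem nm_le_iff {c : Fin r → ℤ} {R : ℝ} (hR : 0 ≤ R) : nm c ≤ R ↔ ∀ j, |((c j : ℤ) : ℝ)| ≤ R := by
  unfold nm
  rw [pi_norm_le_iff_of_nonneg hR]
  simp only [Real.norm_eq_abs]

theorem abs_le_nm (c : Fin r → ℤ) (j : Fin r) : |((c j : ℤ) : ℝ)| ≤ nm c :=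
  (nm_le_iff (nm_nonneg c)).1 le_rfl j

@[simp] theorem nm_zero : nm (0 : Fin r → ℤ) = 0 := by
  refine le_antisymm ?_ (nm_nonneg _)
  rw [nm_le_iff le_rfl]
  intro j
  simp

theorem nm_smul (m : ℕ) (c : Fin r → ℤ) : nm (fun j => (m : ℤ) * c j) = m * nm c := by
  unfold nm
  have : (fun j => (((m : ℤ) * c j : ℤ) : ℝ)) = (m : ℝ) • (fun j => ((c j : ℤ) : ℝ)) := by
    ext j
    simp
  rw [this, norm_smul]
  simp

theorem sum_abs_le (c : Fin r → ℤ) : ∑ j, |((c j : ℤ) : ℝ)| ≤ r * nm c := by
  calc ∑ j, |((c j : ℤ) : ℝ)| ≤ ∑ _j : Fin r, nm c := Finset.sum_le_sum fun j _ => abs_le_nm c j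
    _ = r * nm c := by simp

/-- **Steps.** -/
theorem abs_sub_le_of_steps {u : (Fin r → ℤ) → ℝ} {R K : ℝ}
    (h : ∀ (c : Fin r → ℤ) (j : Fin r), nm c ≤ R → nm (c + Pi.single j 1) ≤ R →
      |u (c + Pi.single j 1) - u c| ≤ K) (b : Fin r → ℤ) (hb : nm b ≤ R) :
    ∀ a : Fin r → ℤ, nm a ≤ R → |u a - u b| ≤ K * ∑ j, |((a j - b j : ℤ) : ℝ)| := by
  have hR : 0 ≤ R := (nm_nonneg b).trans hb
  rw [nm_le_iff hR] at hb
  suffices H : ∀ (n : ℕ) (a : Fin r → ℤ), nm a ≤ R → ∑ j, (a j - b j).natAbs = n → |u a - u b| ≤ K * n by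
    intro a ha
    have h1 := H _ a ha rfl
    have h2 : ((∑ j, (a j - b j).natAbs : ℕ) : ℝ) = ∑ j, |((a j - b j : ℤ) : ℝ)| := by
      push_cast
      refine Finset.sum_congr rfl fun j _ => ?_
      rw [Nat.cast_natAbs]
      push_cast
      rfl
    rwa [h2] at h1
  intro n
  induction n with
  | zero =>
    intro a _ h0
    have h1 : a = b := by
      funext j
      have h2 := (Finset.sum_eq_zero_iff.1 h0) j (Finset.mem_univ j)
      omega
    rw [h1]
    simp
  | succ n ih =>
    intro a ha hn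
    have hex : ∃ j, a j ≠ b j := by
      by_contra hcon
      push Not at hcon
      have : ∑ j, (a j - b j).natAbs = 0 := Finset.sum_eq_zero fun j _ => by simp [hcon j]
      omega
    obtain ⟨j, hj⟩ := hex
    have ha' := (nm_le_iff hR).1 ha
    -- the neighbour of `a` towards `b`
    have hsum : ∀ a' : Fin r → ℤ, (∀ l, l ≠ j → a' l = a l) → (a' j - b j).natAbs + 1 = (a j - b j).natAbs →
        ∑ l, (a' l - b l).natAbs = n := by
      intro a' h1 h2
      have e1 := Finset.add_sum_erase Finset.univ (fun l => (a l - b l).natAbs) (Finset.mem_univ j)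
      have e2 := Finset.add_sum_erase Finset.univ (fun l => (a' l - b l).natAbs) (Finset.mem_univ j)
      have e3 : ∑ l ∈ Finset.univ.erase j, (a' l - b l).natAbs = ∑ l ∈ Finset.univ.erase j, (a l - b l).natAbs :=
        Finset.sum_congr rfl fun l hl => by rw [h1 l (Finset.ne_of_mem_erase hl)]
      omega
    have key : ∀ a' : Fin r → ℤ, nm a' ≤ R → |u a' - u a| ≤ K → ∑ l, (a' l - b l).natAbs = n →
        |u a - u b| ≤ K * ((n + 1 : ℕ) : ℝ) := by
      intro a' h1 h2 h3
      have h4 := ih a' h1 h3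
      have h5 : |u a - u b| ≤ |u a' - u a| + |u a' - u b| := by
        have : u a - u b = -(u a' - u a) + (u a' - u b) := by ring
        rw [this]
        exact (abs_add_le _ _).trans (by rw [abs_neg])
      push_cast
      linarith
    rcases lt_or_gt_of_ne hj with hlt | hgt
    · set a' : Fin r → ℤ := a + Pi.single j 1 with ha'def
      have hj' : a' j = a j + 1 := by simp [ha'def]
      have hl' : ∀ l, l ≠ j → a' l = a l := fun l hl => by simp [ha'def, hl]
      have hn' : nm a' ≤ R := by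
        rw [nm_le_iff hR]
        intro l
        by_cases hl : l = j
        · rw [hl, hj', abs_le]
          have h1 := abs_le.1 (ha' j)
          have h2 := abs_le.1 (hb j)
          have h3 : ((a j + 1 : ℤ) : ℝ) ≤ (b j : ℝ) := by exact_mod_cast hlt
          push_cast at h3 ⊢
          constructor <;> linarith [h1.1, h2.2]
        · rw [hl' l hl]; exact ha' l
      exact key a' hn' (h a j ha hn') (hsum a' hl' (by rw [hj']; omega))
    · set a' : Fin r → ℤ := a - Pi.single j 1 with ha'def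
      have hj' : a' j = a j - 1 := by simp [ha'def]
      have hl' : ∀ l, l ≠ j → a' l = a l := fun l hl => by simp [ha'def, hl]
      have hn' : nm a' ≤ R := by
        rw [nm_le_iff hR]
        intro l
        by_cases hl : l = j
        · rw [hl, hj', abs_le]
          have h1 := abs_le.1 (ha' j)
          have h2 := abs_le.1 (hb j)
          have h3 : (b j : ℝ) ≤ ((a j - 1 : ℤ) : ℝ) := by exact_mod_cast (by omega : b j ≤ a j - 1)
          push_cast at h3 ⊢
          constructor <;> linarith [h1.2, h2.1]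
        · rw [hl' l hl]; exact ha' l
      have hadd : a' + Pi.single j 1 = a := by simp [ha'def]
      refine key a' hn' ?_ (hsum a' hl' (by rw [hj']; omega))
      have := h a' j hn' (by rw [hadd]; exact ha)
      rw [hadd] at this
      rwa [abs_sub_comm]

end K434.Steps
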