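import Groth.Agent.Variety.K434.HBound
import Groth.Agent.Variety.K434.DevIrred
import Groth.Agent.Variety.K434.Steps
import Groth.Agent.Fga.IntNum0
import Groth.Agent.Fga.HypSec
import Groth.Agent.Ega1.GlobGenPt
import Groth.Agent.S2325
import Groth.Agent.S2329

/-!
# Growth of the cohomology of twists

`X` proper over a field `k` with an ample invertible module.  `T : ℤ^r → X.Modules` a family of invertible modules with
`T (c + e_j) ≅ D_j ⊗ T c` for invertible `D_j`.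
* `growth`: `F` coherent with `dim supp F < e`: `h^i(X, F ⊗ T c) ≤ C * bdR e (nm c)`, where `bdR 0 = 0` and
  `bdR (e + 1) x = (x + 1)^e`, and `nm` is the sup norm.
* `diff_of_map`: `φ : F ⟶ G` with kernel and cokernel with support of dimension `< e`:
  `|h^i(F ⊗ T c) - h^i(G ⊗ T c)| ≤ C * bdR e (nm c)`.
* `diff_twist`: `supp G` irreducible of dimension `< e + 1` and `N` invertible:
  `|h^i((G ⊗ N) ⊗ T c) - h^i(G ⊗ T c)| ≤ C * bdR e (nm c)`.
-/

set_option autoImplicit false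
universe u
open CategoryTheory CategoryTheory.Limits AlgebraicGeometry Opposite TopologicalSpace

namespace K434.Growth

open Groth.Agent Groth.Agent.Ega2 Groth.Agent.Fdesc.LocGen Groth.Agent.CohqB.SerTw
open Groth.Agent.Fga.PicMon Groth.Agent.Pic13.H946.Core Groth.Agent.CohqB.DevSupport
open K434.HBound K434.DevIrred K434.Steps

/-- a chosen section of an invertible twist generating at a given point. -/
theorem exists_twist_section {X : Scheme.{u}} [CompactSpace X] [X.IsSeparated] {A N : X.Modules}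
    (hA : CohB1.IsAmple A) (hN : PicF.IsInvertible N) (ξ : X) :
    ∃ B : X.Modules, PicF.IsInvertible B ∧ (∃ s : Coh.structureModule X ⟶ B, ξ ∈ CohB1.genLocus B s) ∧
      ∃ t : Coh.structureModule X ⟶ CohB1.tensorMod B N, ξ ∈ CohB1.genLocus (CohB1.tensorMod B N) t := by
  obtain ⟨n₁, -, h₁⟩ := S2329.result X A N hA hN
  obtain ⟨n₂, -, h₂⟩ := S2329.result X A (Coh.structureModule X) hA isInvertible_structureModule
  have hB : PicF.IsInvertible (CohB1.tensorPow A (max n₁ n₂)) := isInvertible_tensorPow hA.1 _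
  refine ⟨CohB1.tensorPow A (max n₁ n₂), hB, ?_, ?_⟩
  · exact Ega1.GlobGenPt.exists_mem_genLocus hB
      (S2329.isGloballyGenerated_of_iso (Tens.runit _) (h₂ _ (le_max_right _ _)).2) ξ
  · exact Ega1.GlobGenPt.exists_mem_genLocus (isInvertible_tensorMod hB hN) (h₁ _ (le_max_left _ _)).2 ξ

variable (k : Type u) [Field k] {X : Scheme.{u}} [X.Over (Spec (CommRingCat.of k))]

variable {r : ℕ}

/-- `h^i(F ⊗ T c) = O(bdR e |c|)` for all `i`. -/
def Gr (e : ℕ) (T : (Fin r → ℤ) → X.Modules) (F : X.Modules) : Prop :=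
  ∀ i, ∃ C : ℝ, 0 ≤ C ∧ ∀ c : Fin r → ℤ, (h k (CohB1.tensorMod F (T c)) i : ℝ) ≤ C * bdR e (nm c)

variable {k}

theorem Gr.congr {e : ℕ} {T : (Fin r → ℤ) → X.Modules} {F G : X.Modules} (a : F ≅ G) (hF : Gr k e T F) :
    Gr k e T G := by
  intro i
  obtain ⟨C, hC, h1⟩ := hF i
  refine ⟨C, hC, fun c => ?_⟩
  rw [← h_iso k (Tens.mapTIso a (Iso.refl (T c)))]
  exact h1 c

theorem Gr.of_isZero {e : ℕ} {T : (Fin r → ℤ) → X.Modules} {F : X.Modules} (hF : IsZero F) :
    Gr k e T F := by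
  intro i
  refine ⟨0, le_rfl, fun c => ?_⟩
  have h1 : IsZero (CohB1.tensorMod F (T c)) := (tw (T c)).map_isZero hF
  rw [h_eq_zero k (Fga.IntNum0.HH_subsingleton_of_isZero h1 i)]
  simp

variable [IsProper (X ↘ Spec (CommRingCat.of k))]

theorem Gr.mid {e : ℕ} {T : (Fin r → ℤ) → X.Modules} (hT : ∀ c, PicF.IsInvertible (T c))
    {S : ShortComplex X.Modules}
    (hS : S.ShortExact) (c1 : Coh.IsCoh S.X₁) (c2 : Coh.IsCoh S.X₂) (c3 : Coh.IsCoh S.X₃)
    (h1 : Gr k e T S.X₁) (h3 : Gr k e T S.X₃) : Gr k e T S.X₂ := by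
  intro i
  obtain ⟨C₁, hC₁, h1⟩ := h1 i
  obtain ⟨C₃, hC₃, h3⟩ := h3 i
  refine ⟨C₁ + C₃, add_nonneg hC₁ hC₃, fun c => ?_⟩
  have hN := hT c
  have h2 := h_mid k (shortExact_tw hN hS) (isCoh_tensorMod c2 hN) (isCoh_tensorMod c1 hN)
    (isCoh_tensorMod c3 hN) i
  have h2' : (h k (CohB1.tensorMod S.X₂ (T c)) i : ℝ) ≤
      h k (CohB1.tensorMod S.X₁ (T c)) i + h k (CohB1.tensorMod S.X₃ (T c)) i := by exact_mod_cast h2
  have := h1 c
  have := h3 c
  rw [add_mul]
  linarith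

/-- A map with small kernel and cokernel. -/
theorem diff_of_map {e : ℕ} {T : (Fin r → ℤ) → X.Modules} (hT : ∀ c, PicF.IsInvertible (T c))
    {F G : X.Modules} (hF : Coh.IsCoh F) (hG : Coh.IsCoh G) (φ : F ⟶ G)
    (hK : Gr k e T (kernel φ)) (hQ : Gr k e T (cokernel φ)) (i : ℕ) :
    ∃ C : ℝ, 0 ≤ C ∧ ∀ c, |(h k (CohB1.tensorMod F (T c)) i : ℝ) - h k (CohB1.tensorMod G (T c)) i| ≤
      C * bdR e (nm c) := by
  obtain ⟨C₁, hC₁, h₁⟩ := hK (i + 1)
  obtain ⟨C₂, hC₂, h₂⟩ := hQ i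
  obtain ⟨C₃, hC₃, h₃⟩ := hK i
  obtain ⟨C₄, hC₄, h₄⟩ := hQ (i - 1)
  refine ⟨C₁ + C₂ + C₃ + C₄, by positivity, fun c => ?_⟩
  have hB : 0 ≤ bdR e (nm c) := bdR_nonneg e (nm_nonneg c)
  have e1 := h_target_le k φ hF hG (hT c) i
  have e1' : (h k (CohB1.tensorMod G (T c)) i : ℝ) ≤ h k (CohB1.tensorMod F (T c)) i +
    h k (CohB1.tensorMod (kernel φ) (T c)) (i + 1) + h k (CohB1.tensorMod (cokernel φ) (T c)) i := by
    exact_mod_cast e1
  have e2 : h k (CohB1.tensorMod F (T c)) i ≤ h k (CohB1.tensorMod G (T c)) i +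
    h k (CohB1.tensorMod (kernel φ) (T c)) i + h k (CohB1.tensorMod (cokernel φ) (T c)) (i - 1) := by
    cases i with
    | zero => exact (h_source_zero_le k φ hF hG (hT c)).trans (Nat.le_add_right _ _)
    | succ i => exact h_source_le k φ hF hG (hT c) i
  have e2' : (h k (CohB1.tensorMod F (T c)) i : ℝ) ≤ h k (CohB1.tensorMod G (T c)) i +
    h k (CohB1.tensorMod (kernel φ) (T c)) i + h k (CohB1.tensorMod (cokernel φ) (T c)) (i - 1) := by
    exact_mod_cast e2
  have f1 := h₁ c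
  have f2 := h₂ c
  have f3 := h₃ c
  have f4 := h₄ c
  have g1 := mul_nonneg hC₁ hB
  have g2 := mul_nonneg hC₂ hB
  have g3 := mul_nonneg hC₃ hB
  have g4 := mul_nonneg hC₄ hB
  rw [abs_le, add_mul, add_mul, add_mul]
  constructor <;> linarith

section Twist

variable {T : (Fin r → ℤ) → X.Modules} (hT : ∀ c, PicF.IsInvertible (T c))

include hT

/-- Twisting a module with irreducible support. -/
theorem diff_twist_aux {A : X.Modules} (hA : CohB1.IsAmple A) {e : ℕ}
    (hgr : ∀ K : X.Modules, Coh.IsCoh K → topologicalKrullDim (CohB1.support K) < (e : WithBot ℕ∞) →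
      Gr k e T K)
    {G : X.Modules} (hG : Coh.IsCoh G) {ξ : X} (hsupp : CohB1.support G = closure {ξ})
    (hdim : topologicalKrullDim (CohB1.support G) < ((e + 1 : ℕ) : WithBot ℕ∞))
    {N : X.Modules} (hN : PicF.IsInvertible N) (i : ℕ) :
    ∃ C : ℝ, 0 ≤ C ∧ ∀ c, |(h k (CohB1.tensorMod (CohB1.tensorMod G N) (T c)) i : ℝ) -
      h k (CohB1.tensorMod G (T c)) i| ≤ C * bdR e (nm c) := by
  have hNoeth : IsNoetherian X := VarietyA.TwistExist.isNoetherian k X
  have hsep : X.IsSeparated := Fga.HypSec.isSeparated k X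
  obtain ⟨B, hB, ⟨s, hs⟩, t, ht⟩ := exists_twist_section hA hN ξ
  -- `G ⟶ G ⊗ (B ⊗ N)`
  have hBN : PicF.IsInvertible (CohB1.tensorMod B N) := isInvertible_tensorMod hB hN
  obtain ⟨φ, p1, p2, p3, p4⟩ := exists_mul hBN t ht G
  have hG1 : Coh.IsCoh (CohB1.tensorMod G (CohB1.tensorMod B N)) := isCoh_tensorMod hG hBN
  obtain ⟨hK1, hQ1, -, -⟩ := image_aux k φ hG hG1
  obtain ⟨C₁, hC₁, h₁⟩ := diff_of_map hT hG hG1 φ (hgr _ hK1 (dim_support_lt hK1 hsupp p3 p1 hdim))
    (hgr _ hQ1 (dim_support_lt hQ1 hsupp p4 p2 hdim)) i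
  -- `G ⊗ N ⟶ (G ⊗ N) ⊗ B`
  have hGN : Coh.IsCoh (CohB1.tensorMod G N) := isCoh_tensorMod hG hN
  have hsuppN : CohB1.support (CohB1.tensorMod G N) = CohB1.support G := support_tw hN
  obtain ⟨ψ, q1, q2, q3, q4⟩ := exists_mul hB s hs (CohB1.tensorMod G N)
  rw [hsuppN] at q3 q4
  have hG2 : Coh.IsCoh (CohB1.tensorMod (CohB1.tensorMod G N) B) := isCoh_tensorMod hGN hB
  obtain ⟨hK2, hQ2, -, -⟩ := image_aux k ψ hGN hG2
  obtain ⟨C₂, hC₂, h₂⟩ := diff_of_map hT hGN hG2 ψ (hgr _ hK2 (dim_support_lt hK2 hsupp q3 q1 hdim))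
    (hgr _ hQ2 (dim_support_lt hQ2 hsupp q4 q2 hdim)) i
  refine ⟨C₁ + C₂, add_nonneg hC₁ hC₂, fun c => ?_⟩
  have e1 : h k (CohB1.tensorMod (CohB1.tensorMod G (CohB1.tensorMod B N)) (T c)) i =
      h k (CohB1.tensorMod (CohB1.tensorMod (CohB1.tensorMod G N) B) (T c)) i := by
    refine h_congr k ?_ i
    rw [mc_tensor, mc_tensor, mc_tensor, mc_tensor, mc_tensor, mc_tensor]
    simp only [mul_assoc, mul_comm]
  have f1 := h₁ c
  have f2 := h₂ c
  rw [e1] at f1
  rw [abs_le] at f1 f2 ⊢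
  rw [add_mul]
  constructor <;> linarith [f1.1, f1.2, f2.1, f2.2]

variable {D : Fin r → X.Modules} (hD : ∀ j, PicF.IsInvertible (D j))
  (hTD : ∀ c j, mc (T (c + Pi.single j 1)) = mc (D j) * mc (T c))

include hD hTD

/-- **Growth.** -/
theorem growth {A : X.Modules} (hA : CohB1.IsAmple A) (e : ℕ) :
    ∀ F : X.Modules, Coh.IsCoh F → topologicalKrullDim (CohB1.support F) < (e : WithBot ℕ∞) →
      Gr k e T F := by
  have hNoeth : IsNoetherian X := VarietyA.TwistExist.isNoetherian k X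
  induction e with
  | zero =>
    intro F hF hdim
    refine Gr.of_isZero (isZero_of_support_eq_empty ?_)
    rw [Set.eq_empty_iff_forall_notMem]
    intro x hx
    have : Nonempty (CohB1.support F) := ⟨⟨x, hx⟩⟩
    exact absurd hdim (not_lt.2 (by exact_mod_cast Fga.IntNum0.topologicalKrullDim_nonneg _))
  | succ e IH =>
    intro F hF hdim
    refine devissage_gen (fun A => topologicalKrullDim A < ((e + 1 : ℕ) : WithBot ℕ∞))
      (fun _ _ h1 h2 => (Fga.DimLt.topologicalKrullDim_mono h1).trans_lt h2) (Gr k (e + 1) T)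
      (fun M N ⟨a⟩ hM => hM.congr a) (fun M hM => Gr.of_isZero hM)
      (fun S hS c1 c2 c3 h1 h3 => Gr.mid hT hS c1 c2 c3 h1 h3) ?_ F hF hdim
    intro G ξ hG hsupp hdimG i
    choose C hC hstep using fun j : Fin r => diff_twist_aux hT hA IH hG hsupp hdimG (hD j) i
    set u : (Fin r → ℤ) → ℝ := fun c => (h k (CohB1.tensorMod G (T c)) i : ℝ) with hu
    set K : ℝ := ∑ j, C j with hKdef
    have hK : 0 ≤ K := Finset.sum_nonneg fun j _ => hC j
    have hu0 : 0 ≤ u 0 := Nat.cast_nonneg _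
    have hstep' : ∀ (c : Fin r → ℤ) (j : Fin r), |u (c + Pi.single j 1) - u c| ≤ K * bdR e (nm c) := by
      intro c j
      have h1 := hstep j c
      have h2 : h k (CohB1.tensorMod (CohB1.tensorMod G (D j)) (T c)) i =
          h k (CohB1.tensorMod G (T (c + Pi.single j 1))) i := by
        refine h_congr k ?_ i
        rw [mc_tensor, mc_tensor, mc_tensor, hTD, mul_assoc]
      rw [h2] at h1
      refine h1.trans (mul_le_mul_of_nonneg_right ?_ (bdR_nonneg e (nm_nonneg c)))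
      exact Finset.single_le_sum (f := C) (fun j _ => hC j) (Finset.mem_univ j)
    refine ⟨u 0 + K * r, by positivity, fun a => ?_⟩
    have hB := bdR_nonneg e (nm_nonneg a)
    have h3 := abs_sub_le_of_steps (u := u) (R := nm a) (K := K * bdR e (nm a))
      (fun c j hc _ => (hstep' c j).trans (mul_le_mul_of_nonneg_left (bdR_mono e (nm_nonneg c) hc) hK))
      0 (by rw [nm_zero]; exact nm_nonneg a) a le_rfl
    have h4 : ∑ j, |((a j - (0 : Fin r → ℤ) j : ℤ) : ℝ)| ≤ r * nm a := by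
      have := sum_abs_le a
      simpa using this
    have h5 : |u a - u 0| ≤ K * bdR e (nm a) * (r * nm a) :=
      h3.trans (mul_le_mul_of_nonneg_left h4 (mul_nonneg hK hB))
    have h6 : u a ≤ u 0 + K * bdR e (nm a) * (r * nm a) := by
      have := (abs_le.1 h5).2
      linarith
    refine h6.trans ?_
    rw [bdR_succ]
    have hn := nm_nonneg a
    have h7 : bdR e (nm a) * nm a ≤ (nm a + 1) ^ e := by
      cases e with
      | zero => simp
      | succ e =>
        rw [bdR_succ, pow_succ]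
        gcongr
        linarith
    have h8 : (1 : ℝ) ≤ (nm a + 1) ^ e := one_le_pow₀ (by linarith)
    have h9 : K * r * (bdR e (nm a) * nm a) ≤ K * r * (nm a + 1) ^ e :=
      mul_le_mul_of_nonneg_left h7 (by positivity)
    have h10 : u 0 * 1 ≤ u 0 * (nm a + 1) ^ e := mul_le_mul_of_nonneg_left h8 hu0
    calc u 0 + K * bdR e (nm a) * (r * nm a) = u 0 * 1 + K * r * (bdR e (nm a) * nm a) := by ring
      _ ≤ u 0 * (nm a + 1) ^ e + K * r * (nm a + 1) ^ e := add_le_add h10 h9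
      _ = (u 0 + K * r) * (nm a + 1) ^ e := by ring

/-- Twisting a module with irreducible support of dimension `< e + 1`. -/
theorem diff_twist {A : X.Modules} (hA : CohB1.IsAmple A) {e : ℕ}
    {G : X.Modules} (hG : Coh.IsCoh G) {ξ : X} (hsupp : CohB1.support G = closure {ξ})
    (hdim : topologicalKrullDim (CohB1.support G) < ((e + 1 : ℕ) : WithBot ℕ∞))
    {N : X.Modules} (hN : PicF.IsInvertible N) (i : ℕ) :
    ∃ C : ℝ, 0 ≤ C ∧ ∀ c, |(h k (CohB1.tensorMod (CohB1.tensorMod G N) (T c)) i : ℝ) -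
      h k (CohB1.tensorMod G (T c)) i| ≤ C * bdR e (nm c) :=
  diff_twist_aux hT hA (growth hT hD hTD hA e) hG hsupp hdim hN i

/-- A map with kernel and cokernel with support of dimension `< e`. -/
theorem diff_map {A : X.Modules} (hA : CohB1.IsAmple A) {e : ℕ}
    {F G : X.Modules} (hF : Coh.IsCoh F) (hG : Coh.IsCoh G) (φ : F ⟶ G)
    (hK : topologicalKrullDim (CohB1.support (kernel φ)) < (e : WithBot ℕ∞))
    (hQ : topologicalKrullDim (CohB1.support (cokernel φ)) < (e : WithBot ℕ∞)) (i : ℕ) :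
    ∃ C : ℝ, 0 ≤ C ∧ ∀ c, |(h k (CohB1.tensorMod F (T c)) i : ℝ) - h k (CohB1.tensorMod G (T c)) i| ≤
      C * bdR e (nm c) := by
  obtain ⟨hK1, hQ1, -, -⟩ := image_aux k φ hF hG
  exact diff_of_map hT hF hG φ (growth hT hD hTD hA e _ hK1 hK) (growth hT hD hTD hA e _ hQ1 hQ) i

end Twist

end K434.Growth
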