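import Groth.Agent.ProjDual.K274.Shift
import Mathlib.RingTheory.Length

/-!
# The `E_2` bound for the length of `Ext`

`K` a cochain complex of injectives (indexed by `ℕ`) in an `R`-linear abelian category, `F` an object.  The module of
cocycles of `Hom(F, K)` in degree `n` modulo coboundaries has length at most
`∑_{q ≤ n} length Ext^{n-q}(F, H^q(K))` (`length_le`).  For an adjunction `L ⊣ G` with `L` exact this bounds the length of
`Ext^n(L N, M)` by the lengths of the `Ext^{n-q}(N, R^q G(M))` (`length_ext_le`).
-/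

set_option autoImplicit false

universe t w v u

open CategoryTheory Limits Abelian

namespace K434.SSBound

open K274.PartRes

variable {R : Type t} [CommRing R]

section Alg

variable {A B D : Type*} [AddCommGroup A] [Module R A] [AddCommGroup B] [Module R B] [AddCommGroup D] [Module R D]

/-- Length of the middle term of an exact sequence. -/
theorem length_le_of_exact (f : A →ₗ[R] B) (g : B →ₗ[R] D) (h : Function.Exact f g) :
    Module.length R B ≤ Module.length R A + Module.length R D := by
  have h1 : Function.Exact (LinearMap.range f).subtype g := by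
    intro x
    rw [h x]
    simp
  have h2 := Module.length_eq_add_of_exact (LinearMap.range f).subtype (LinearMap.rangeRestrict g)
    (Submodule.subtype_injective _) (LinearMap.surjective_rangeRestrict g) (by
      intro x
      rw [← h1 x, ← Subtype.val_inj]
      rfl)
  rw [h2]
  exact add_le_add (Module.length_le_of_surjective _ (LinearMap.surjective_rangeRestrict f))
    (Module.length_le_of_injective _ (Submodule.subtype_injective _))

/-- A quotient of `Z` filtered by the kernel of `α`. -/
theorem length_le_of_quot {Z M : Type*} [AddCommGroup Z] [Module R Z] [AddCommGroup M] [Module R M]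
    (φ : Z →ₗ[R] M) (hφ : Function.Surjective φ) (α : Z →ₗ[R] A) (β : LinearMap.ker α →ₗ[R] B)
    (h1 : LinearMap.ker φ ≤ LinearMap.ker α) (h2 : ∀ x : LinearMap.ker α, β x = 0 → φ x.1 = 0) :
    Module.length R M ≤ Module.length R B + Module.length R A := by
  -- the induced map `M → A`
  let a : M →ₗ[R] A := ((LinearMap.ker φ).liftQ α h1) ∘ₗ (φ.quotKerEquivOfSurjective hφ).symm.toLinearMap
  have ha : ∀ z, a (φ z) = α z := by
    intro z
    have h3 : (φ.quotKerEquivOfSurjective hφ).symm (φ z) = (LinearMap.ker φ).mkQ z := by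
      rw [LinearEquiv.symm_apply_eq]; rfl
    change (LinearMap.ker φ).liftQ α h1 ((φ.quotKerEquivOfSurjective hφ).symm (φ z)) = _
    rw [h3]
    rfl
  -- the kernel of `a` is a quotient of `ker α / ker β`
  have h4 : Module.length R (LinearMap.ker a) ≤ Module.length R B := by
    let ψ : LinearMap.ker α →ₗ[R] LinearMap.ker a :=
      LinearMap.codRestrict _ (φ ∘ₗ (LinearMap.ker α).subtype) fun x => by
        rw [LinearMap.mem_ker]
        exact (ha x.1).trans x.2
    have hψ : Function.Surjective ψ := by
      rintro ⟨m, hm⟩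
      obtain ⟨z, rfl⟩ := hφ m
      exact ⟨⟨z, (ha z).symm.trans hm⟩, rfl⟩
    have h5 : LinearMap.ker β ≤ LinearMap.ker ψ := by
      intro x hx
      rw [LinearMap.mem_ker]
      exact Subtype.ext (h2 x hx)
    have h6 : Function.Surjective ((LinearMap.ker β).liftQ ψ h5) := by
      intro y
      obtain ⟨x, rfl⟩ := hψ y
      exact ⟨(LinearMap.ker β).mkQ x, rfl⟩
    refine (Module.length_le_of_surjective _ h6).trans ?_
    exact (LinearEquiv.length_eq β.quotKerEquivRange).trans_le
      (Module.length_le_of_injective _ (Submodule.subtype_injective _))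
  have h7 := length_le_of_exact (LinearMap.ker a).subtype a (by
    intro x
    simp)
  exact h7.trans (add_le_add h4 le_rfl)

end Alg

variable {C : Type u} [Category.{v} C] [Abelian C] [Linear R C] [HasExt.{w} C] (K : CochainComplex C ℕ)
  [∀ j, Injective (K.X j)]

omit [∀ j, Injective (K.X j)] in
omit K in
/-- Exactness of `Ext^a(F, -)` in the middle. -/
theorem exact_postcomp {S : ShortComplex C} (hS : S.ShortExact) (F : C) (a : ℕ) :
    Function.Exact (Ext.postcompOfLinear (Ext.mk₀ S.f) R F (add_zero a))
      (Ext.postcompOfLinear (Ext.mk₀ S.g) R F (add_zero a)) := by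
  intro x
  constructor
  · intro hx
    exact Ext.covariant_sequence_exact₂ F hS x hx
  · rintro ⟨y, rfl⟩
    change (y.comp (Ext.mk₀ S.f) (add_zero a)).comp (Ext.mk₀ S.g) (add_zero a) = 0
    rw [Ext.comp_assoc_of_third_deg_zero, Ext.mk₀_comp_mk₀, S.zero, Ext.mk₀_zero, Ext.comp_zero]

/-- The bound for the cycles. -/
theorem length_cycles_le (F : C) (m : ℕ) : ∀ a : ℕ, 1 ≤ a →
    Module.length R (Ext F (K.cycles m) a) ≤
      ∑ q ∈ Finset.range (m + 1), Module.length R (Ext F (K.homology q) (a + m - q)) := by
  induction m with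
  | zero =>
    intro a ha
    have hS := shortExact_bd K 0
    have h1 := length_le_of_exact _ _ (exact_postcomp (R := R) hS F a)
    dsimp only at h1
    have h2 : Module.length R (Ext F (kernel (K.homologyπ 0)) a) = 0 := by
      rw [Module.length_eq_zero_iff]
      exact ⟨fun x y => by
        have : ∀ x : Ext F (kernel (K.homologyπ 0)) a, x = 0 := fun x => by
          have h3 := Ext.comp_mk₀_id x
          rw [(isZero_bd_zero K).eq_of_src (𝟙 _) 0, Ext.mk₀_zero, Ext.comp_zero] at h3
          exact h3.symm
        rw [this x, this y]⟩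
    rw [h2, zero_add] at h1
    rw [Finset.sum_range_one]
    exact h1
  | succ m ih =>
    intro a ha
    have hS := shortExact_bd K (m + 1)
    have h1 := length_le_of_exact _ _ (exact_postcomp (R := R) hS F a)
    dsimp only at h1
    have hT := shortExact_toBd K m
    have h2 : Module.length R (Ext F (bd K (m + 1)) a) ≤ Module.length R (Ext F (K.cycles m) (a + 1)) := by
      refine Module.length_le_of_injective (Ext.postcompOfLinear hT.extClass R F rfl) ?_
      rw [injective_iff_map_eq_zero]
      intro x hx
      obtain ⟨y, rfl⟩ := Ext.covariant_sequence_exact₃ F hT x rfl hx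
      obtain ⟨a, rfl⟩ : ∃ b, a = b + 1 := ⟨a - 1, by omega⟩
      rw [Ext.eq_zero_of_injective y, Ext.zero_comp]
    have h3 := ih (a + 1) (by omega)
    rw [Finset.sum_range_succ]
    have h4 : a + (m + 1) - (m + 1) = a := by omega
    rw [h4]
    refine h1.trans (add_le_add ((h2.trans h3).trans_eq ?_) le_rfl)
    refine Finset.sum_congr rfl fun q _ => ?_
    rw [show a + 1 + m - q = a + (m + 1) - q by omega]

omit [HasExt.{w} C] [∀ j, Injective (K.X j)] in
/-- A cocycle as a map to the cycles. -/
theorem exists_lift_cycles {F : C} {n : ℕ} (z : Z R K F n) : ∃ y : F ⟶ K.cycles n, y ≫ K.iCycles n = z.1 :=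
  ⟨K.liftCycles z.1 (n + 1) (by simp) z.2, K.liftCycles_i _ _ _ _⟩

/-- **The `E_2` bound**. -/
theorem length_le (F : C) (n : ℕ) {M : Type*} [AddCommGroup M] [Module R M] (P : Pres R K F n M) :
    Module.length R M ≤
      ∑ q ∈ Finset.range (n + 1), Module.length R (Ext F (K.homology q) (n - q)) := by
  -- the class of a cocycle in `Hom(F, H^n)`
  let α : Z R K F n →ₗ[R] (F ⟶ K.homology n) := cls K R n (Iso.refl _) F
  have hα : ∀ z, α z = K.liftCycles z.1 (n + 1) (by simp) z.2 ≫ K.homologyπ n := by
    intro z
    change cls K R n (Iso.refl _) F z = _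
    rw [cls_apply, Iso.refl_hom, Category.comp_id]
  have hker : LinearMap.ker P.φ ≤ LinearMap.ker α := by
    intro z hz
    rw [LinearMap.mem_ker, P.ker_iff] at hz
    rw [LinearMap.mem_ker, hα]
    obtain ⟨p, g, hg⟩ := hz
    have h1 : K.liftCycles z.1 (n + 1) (by simp) z.2 = g ≫ K.toCycles p n := by
      rw [← cancel_mono (K.iCycles n), K.liftCycles_i, Category.assoc, K.toCycles_i, hg]
    rw [h1, Category.assoc, K.toCycles_comp_homologyπ, comp_zero]
  have hl0 : Module.length R (F ⟶ K.homology n) = Module.length R (Ext F (K.homology n) 0) :=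
    LinearEquiv.length_eq (Ext.linearEquiv₀ (R := R)).symm
  cases n with
  | zero =>
    rw [Finset.sum_range_one, ← hl0]
    have h1 := length_le_of_quot (B := PUnit.{1}) P.φ P.surj α 0 hker (fun x _ => by
      rw [P.ker_iff, isB_zero_iff]
      have h2 : α x.1 = 0 := x.2
      rw [hα] at h2
      have h3 := (shortExact_bd K 0).exact.lift_f (K.liftCycles x.1.1 (0 + 1) (by simp) x.1.2) h2
      have h4 : K.liftCycles x.1.1 (0 + 1) (by simp) x.1.2 = 0 := by
        rw [← h3, (isZero_bd_zero K).eq_of_tgt ((shortExact_bd K 0).exact.lift _ h2) 0, zero_comp]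
      rw [← K.liftCycles_i x.1.1 (0 + 1) (by simp) x.1.2, h4, zero_comp])
    rw [Module.length_eq_zero_iff.2 (inferInstance : Subsingleton PUnit.{1}), zero_add] at h1
    exact h1
  | succ n =>
    have hT := shortExact_toBd K n
    -- the map `ker α → Hom(F, B^{n+1}) → Ext^1(F, Z^n)`
    have hlift : ∀ x : LinearMap.ker α, K.liftCycles x.1.1 (n + 1 + 1) (by simp) x.1.2 ≫ K.homologyπ (n + 1) = 0 :=
      fun x => (hα x.1).symm.trans x.2
    let γ : LinearMap.ker α →ₗ[R] (F ⟶ bd K (n + 1)) :=
      { toFun := fun x => kernel.lift _ _ (hlift x)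
        map_add' := fun x y => by
          rw [← cancel_mono (kernel.ι (K.homologyπ (n + 1))), Preadditive.add_comp, kernel.lift_ι, kernel.lift_ι,
            kernel.lift_ι, ← cancel_mono (K.iCycles (n + 1)), Preadditive.add_comp, K.liftCycles_i, K.liftCycles_i,
            K.liftCycles_i]
          rfl
        map_smul' := fun r x => by
          rw [RingHom.id_apply, ← cancel_mono (kernel.ι (K.homologyπ (n + 1))), Linear.smul_comp, kernel.lift_ι,
            kernel.lift_ι, ← cancel_mono (K.iCycles (n + 1)), Linear.smul_comp, K.liftCycles_i, K.liftCycles_i]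
          rfl }
    have hγ : ∀ x, γ x ≫ kernel.ι (K.homologyπ (n + 1)) ≫ K.iCycles (n + 1) = x.1.1 := by
      intro x
      change kernel.lift _ _ (hlift x) ≫ _ = _
      rw [kernel.lift_ι_assoc, K.liftCycles_i]
    let ex : Ext F (bd K (n + 1)) 0 →ₗ[R] Ext F (K.cycles n) (0 + 1) :=
      Ext.postcompOfLinear hT.extClass R F rfl
    have h1 := length_le_of_quot P.φ P.surj α (ex ∘ₗ (Ext.linearEquiv₀ (R := R)).symm.toLinearMap ∘ₗ γ) hker
      (fun x hx => by
        rw [P.ker_iff, isB_succ_iff]
        have h2 : (Ext.mk₀ (γ x)).comp hT.extClass (rfl : 0 + 1 = 0 + 1) = 0 := hx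
        obtain ⟨y, hy⟩ := Ext.covariant_sequence_exact₃ F hT (Ext.mk₀ (γ x)) rfl h2
        obtain ⟨y, rfl⟩ := (Ext.linearEquiv₀ (R := R)).symm.surjective y
        rw [Ext.linearEquiv₀_symm_apply] at hy
        have h3 : Ext.mk₀ (y ≫ toBd K n) = Ext.mk₀ (γ x) := by
          rw [← hy, Ext.mk₀_comp_mk₀]
        have h4 : y ≫ toBd K n = γ x := Ext.homEquiv₀.symm.injective h3
        exact ⟨y, by rw [← hγ, ← h4, Category.assoc, toBd_ι_i]⟩)
    have h5 := length_cycles_le (R := R) K F n 1 le_rfl
    rw [Finset.sum_range_succ, Nat.sub_self, ← hl0]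
    refine h1.trans (add_le_add (h5.trans_eq ?_) le_rfl)
    refine Finset.sum_congr rfl fun q _ => ?_
    rw [show 1 + n - q = n + 1 - q by omega]

section Adj

universe w' v' u'

omit K [∀ j, Injective (K.X j)] in
/-- **The `E_2` bound** for the Grothendieck spectral sequence `Ext^p(N, R^q G(M)) ⇒ Ext^{p+q}(L N, M)`. -/
theorem length_ext_le {D : Type u'} [Category.{v'} D] [Abelian D] [Linear R D] [HasExt.{w'} D] {L : C ⥤ D} {G : D ⥤ C}
    [L.Additive] [L.Linear R] [G.Additive] [L.PreservesMonomorphisms] (adj : L ⊣ G) {M : D}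
    (J : InjectiveResolution M) (N : C) (n : ℕ) :
    Module.length R (Ext.{w'} (L.obj N) M n) ≤
      ∑ q ∈ Finset.range (n + 1), Module.length R (Ext.{w} N ((K274.Shift.cx G J).homology q) (n - q)) := by
  haveI := K274.Shift.injective_cx adj J
  exact length_le (K274.Shift.cx G J) N n ((presExt (R := R) (L.obj N) M J n).comap (adjZ R adj J.cocomplex N n)
      (fun x => isB_adjZ adj J.cocomplex N n x))

end Adj

end K434.SSBound
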